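import Cfsg.Agent.LThreeBX.Main
import Cfsg.Agent.LThreeB.CasesM
import Cfsg.Agent.PreUniqCo.FiTwentyTwo
import Cfsg.Agent.SuzThree.CentCard
import Cfsg.Agent.MonsterX.MainOrder
import Cfsg.Agent.LThreeMB.COct
import Cfsg.Agent.LThreeB.Row
import Cfsg.Agent.PreUniq.MonGen
import Cfsg.Agent.CpAutBFive.EvenRow
import Cfsg.Agent.MFive.Row
import Cfsg.Agent.MFiveHN.Closed
import Cfsg.Agent.PreUniq.MonRow
import Cfsg.Agent.PreUniq.MonNegFive
import Cfsg.Agent.CoFive.Ranks
import Cfsg.Agent.S1619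
import Cfsg.Agent.S1620

-- merged: Cfsg.Agent.MThirteen.Abs
section

/-!
# Elements of order 13 commuting with an element of order 3 and an involution of the Monster: fixed rank 0 (helper75)

`D` finite with an isolated involution `z` and `φ : C_D(z) → X` onto a simple group with small central kernel.

* `exists_sq` : an element of square `z` in `C_D(z)` (`X` the Suzuki group);
* `exists_ext` : `φ` extends to `F : D → X`, with kernel `N · ker φ`, `N` of odd order;
* `no_comm` : for a prime `p` not dividing the orders of the centralizers of the involutions of `X`, an element of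
  order `p` and an involution not conjugate to `z` do not commute.
-/

set_option autoImplicit false

namespace Cfsg.Agent.MThirteen

open Subgroup Cfsg Cfsg.Agent.LThree Cfsg.Agent.LThreeBX.Abs

universe u v

/-- two involutions with a product of odd order -/
theorem conj_of_odd {G : Type*} [Group G] {z z' : G} (hz : z * z = 1) (hz' : z' * z' = 1)
    (ho : Odd (orderOf (z * z'))) : ∃ s ∈ zpowers (z * z'), s * z' * s⁻¹ = z := by
  obtain ⟨m, hm⟩ := ho
  set r := z * z' with hr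
  have hzi : z⁻¹ = z := inv_eq_of_mul_eq_one_left hz
  have hzi' : z'⁻¹ = z' := inv_eq_of_mul_eq_one_left hz'
  have h1 : z * r * z⁻¹ = r⁻¹ := by
    rw [hr, mul_inv_rev, hzi, hzi', ← mul_assoc, hz, one_mul]
  have h2 : r ^ (m + 1) * r ^ (m + 1) = r := by
    rw [← pow_add, show m + 1 + (m + 1) = (2 * m + 1) + 1 by ring, pow_succ, ← hm, pow_orderOf_eq_one, one_mul]
  refine ⟨r ^ (m + 1), npow_mem_zpowers r _, ?_⟩
  have h3 : z * r ^ (m + 1) * z⁻¹ = (r ^ (m + 1))⁻¹ := by
    rw [← conj_pow, h1, inv_pow]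
  have h4 : z' = z * r := by rw [hr, ← mul_assoc, hz, one_mul]
  have h5 : r ^ (m + 1) * z = z * (r ^ (m + 1))⁻¹ := by
    rw [← h3]
    calc r ^ (m + 1) * z = (z * z) * r ^ (m + 1) * z := by rw [hz, one_mul]
      _ = z * (z * r ^ (m + 1) * z⁻¹) := by rw [hzi]; group
  rw [h4]
  calc r ^ (m + 1) * (z * r) * (r ^ (m + 1))⁻¹ = (r ^ (m + 1) * z) * r * (r ^ (m + 1))⁻¹ := by group
    _ = z * ((r ^ (m + 1))⁻¹ * r * (r ^ (m + 1))⁻¹) := by rw [h5]; group
    _ = z * ((r ^ (m + 1))⁻¹ * (r ^ (m + 1) * r ^ (m + 1)) * (r ^ (m + 1))⁻¹) := by rw [h2]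
    _ = z := by group

section

variable {D : Type u} [Group D] [Finite D] {z : D} {X : Type v} [Group X]
  (φ : ↥(centralizer ({z} : Set D)) →* X)

omit [Finite D] in
/-- **An element of square `z`.** -/
theorem exists_sq (hφ : Function.Surjective φ) (hK : Ker φ) (hz2 : z * z = 1) (hX : Spor.IsoSuz X)
    (h7 : ∀ t g : ↥(centralizer ({z} : Set D)), t * t = 1 → φ t ≠ 1 → g ^ 7 = 1 → g * t = t * g → g = 1) :
    ∃ k : ↥(centralizer ({z} : Set D)), k * k = zA := by
  obtain ⟨e⟩ := hX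
  obtain ⟨t, ht⟩ := hφ (e.symm KFacts.SuzLFour.e0)
  have het : e (φ t) = KFacts.SuzLFour.e0 := by rw [ht, MulEquiv.apply_symm_apply]
  have hee : KFacts.SuzLFour.e0 * KFacts.SuzLFour.e0 = 1 := by
    have h1 := KFacts.SuzLFour.e0_sq
    exact h1
  have hk : t * t ∈ φ.ker := by
    rw [MonoidHom.mem_ker]
    apply e.injective
    rw [map_mul, map_mul, het, hee, map_one]
  have h3 : (t ^ 3) * (t ^ 3) = (t * t) ^ 3 := by
    rw [← pow_two, ← pow_two, ← pow_mul, ← pow_mul]
  have hk3 : (t * t) ^ 3 ∈ φ.ker := Subgroup.pow_mem _ hk 3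
  have h6 : (t * t) ^ 3 * (t * t) ^ 3 = 1 := by
    rw [← pow_add]
    exact hK.six _ hk
  have he3 : e (φ (t ^ 3)) = KFacts.SuzLFour.e0 := by
    rw [map_pow, map_pow, het, pow_succ, pow_two, hee, one_mul]
  have hne : KFacts.SuzLFour.e0 ≠ 1 := KFacts.SuzLFour.e0_ne
  rcases hK.two _ hk3 h6 with h | h
  · exfalso
    refine not_e0 φ hφ hK hz2 e (t := t ^ 3) (by rw [h3, h]) (fun g hg hgt => h7 _ g (by rw [h3, h]) ?_ hg hgt)
      (by rw [he3])
    intro h1
    apply hne
    rw [← he3, h1, map_one]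
  · exact ⟨t ^ 3, by rw [h3, h]⟩

/-- **The extension of `φ`.** -/
theorem exists_ext (hz : orderOf z = 2) (hiso : ∀ d : D, (d * z * d⁻¹) * z = z * (d * z * d⁻¹) → d * z * d⁻¹ = z)
    (hS : IsSimpleGroup X) (hev : Even (Nat.card X)) (hf : Function.Surjective φ) :
    ∃ (N : Subgroup D) (F : D →* X), N.Normal ∧ Odd (Nat.card ↥N) ∧ N ⊔ centralizer ({z} : Set D) = ⊤ ∧
      Function.Surjective F ∧ (∀ c : ↥(centralizer ({z} : Set D)), F c = φ c) ∧ (∀ n ∈ N, F n = 1) ∧
      ∀ d, F d = 1 → ∃ n ∈ N, ∃ c : ↥(centralizer ({z} : Set D)), φ c = 1 ∧ d = n * c := by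
  obtain ⟨N, hN, hNo, hsup⟩ := LThreeMB.ZStar.exists_core hz hiso
  let α : ↥(centralizer ({z} : Set D)) →* D ⧸ N := (QuotientGroup.mk' N).comp (centralizer ({z} : Set D)).subtype
  have hα : Function.Surjective α := by
    intro y
    obtain ⟨g, rfl⟩ := QuotientGroup.mk'_surjective N y
    have hg : g ∈ N ⊔ centralizer ({z} : Set D) := by rw [hsup]; trivial
    obtain ⟨n, hn, c, hc, rfl⟩ := mem_sup_of_normal_left.1 hg
    refine ⟨⟨c, hc⟩, ?_⟩
    show QuotientGroup.mk' N c = QuotientGroup.mk' N (n * c)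
    rw [map_mul, show QuotientGroup.mk' N n = 1 from (QuotientGroup.eq_one_iff _).2 hn, one_mul]
  have hαk : α.ker = N.subgroupOf (centralizer ({z} : Set D)) := by
    ext x
    rw [MonoidHom.mem_ker, mem_subgroupOf]
    exact QuotientGroup.eq_one_iff _
  have hSf : Finite X := Finite.of_surjective φ hf
  have hle : α.ker ≤ φ.ker := by
    rw [hαk]
    have h1 : ((N.subgroupOf (centralizer ({z} : Set D))).map φ).Normal := Subgroup.Normal.map inferInstance φ hf
    have h2 : Nat.card ↥((N.subgroupOf (centralizer ({z} : Set D))).map φ) ∣ Nat.card ↥N := by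
      refine (card_map_dvd _ φ).trans ?_
      have h3 : Nat.card ↥(N.subgroupOf (centralizer ({z} : Set D))) =
          Nat.card ↥((N.subgroupOf (centralizer ({z} : Set D))).map (centralizer ({z} : Set D)).subtype) :=
        (card_map_of_injective (Subgroup.subtype_injective _)).symm
      rw [h3, subgroupOf_map_subtype]
      exact card_dvd_of_le inf_le_left
    rcases h1.eq_bot_or_eq_top with h | h
    · exact (Subgroup.map_eq_bot_iff _).1 h
    · exfalso
      rw [h, card_top] at h2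
      exact (Nat.not_even_iff_odd.2 (hNo.of_dvd_nat h2)) hev
  obtain ⟨ρ, hρ⟩ := LThreeMB.exists_fac α hα φ (fun a ha => hle ha)
  have hρs : Function.Surjective ρ := by
    intro s
    obtain ⟨c, rfl⟩ := hf s
    exact ⟨α c, hρ c⟩
  refine ⟨N, ρ.comp (QuotientGroup.mk' N), hN, hNo, hsup, hρs.comp (QuotientGroup.mk'_surjective N),
    fun c => hρ c, fun n hn => ?_, fun d hd => ?_⟩
  · show ρ (QuotientGroup.mk' N n) = 1
    rw [show QuotientGroup.mk' N n = 1 from (QuotientGroup.eq_one_iff _).2 hn, map_one]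
  · have hg : d ∈ N ⊔ centralizer ({z} : Set D) := by rw [hsup]; trivial
    obtain ⟨n, hn, c, hc, rfl⟩ := mem_sup_of_normal_left.1 hg
    refine ⟨n, hn, ⟨c, hc⟩, ?_, rfl⟩
    rw [← hρ ⟨c, hc⟩, ← hd]
    show ρ (QuotientGroup.mk' N c) = ρ (QuotientGroup.mk' N (n * c))
    rw [map_mul (QuotientGroup.mk' N), show QuotientGroup.mk' N n = 1 from (QuotientGroup.eq_one_iff _).2 hn, one_mul]

end

end Cfsg.Agent.MThirteen

end

-- merged: Cfsg.Agent.MThirteen.Zero
section

/-!
# Elements of order `p` and involutions of a group with an isolated involution (helper75)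

* `acts_trivially` : an element of prime order `q` acts trivially on a `p`-group of order `p ^ j`, if `q` does not
  divide `p ^ i - 1` for `1 ≤ i ≤ j`;
* `inverts` : an involution without fixed points inverts;
* `no_comm` : the main statement.
-/

set_option autoImplicit false

namespace Cfsg.Agent.MThirteen

open Subgroup Cfsg Cfsg.Agent.LThree Cfsg.Agent.LThreeBX.Abs

universe u v

/-- an element of order `q` normalising a `p`-group of small order centralises it -/
theorem acts_trivially {D : Type*} [Group D] [Finite D] {p q m : ℕ} [Fact p.Prime] [hq : Fact q.Prime] (hqp : q ≠ p)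
    (hdiv : ∀ i, 1 ≤ i → i ≤ m → ¬ q ∣ p ^ i - 1) {P : Subgroup D} (hP : IsPGroup p ↥P) (hPm : Nat.card ↥P ∣ p ^ m)
    {u : D} (hu : u ^ q = 1) (hn : ∀ g ∈ P, u * g * u⁻¹ ∈ P) : ∀ g ∈ P, u * g * u⁻¹ = g := by
  classical
  have hpp : p.Prime := Fact.out
  -- the subgroup of the fixed points
  let C : Subgroup ↥P := (centralizer ({u} : Set D)).subgroupOf P
  -- the action of `zpowers u`
  have hn' : u ∈ normalizer (P : Set D) := by
    have hinj : Function.Injective (fun g : ↥P => (⟨u * g * u⁻¹, hn g g.2⟩ : ↥P)) := by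
      intro a b hab
      have h1 : u * (a : D) * u⁻¹ = u * b * u⁻¹ := congrArg Subtype.val hab
      exact Subtype.ext (mul_left_cancel (mul_right_cancel h1))
    have hsur := Finite.surjective_of_injective hinj
    rw [mem_normalizer_iff]
    intro g
    refine ⟨fun hg => hn g hg, fun hg => ?_⟩
    obtain ⟨a, ha⟩ := hsur ⟨_, hg⟩
    have h1 : u * (a : D) * u⁻¹ = u * g * u⁻¹ := congrArg Subtype.val ha
    rw [← mul_left_cancel (mul_right_cancel h1)]
    exact a.2
  let U : Subgroup ↥(normalizer (P : Set D)) := zpowers ⟨u, hn'⟩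
  have hU : IsPGroup q ↥U := by
    intro g
    refine ⟨1, ?_⟩
    obtain ⟨i, hi⟩ := mem_zpowers_iff.1 g.2
    apply Subtype.ext
    rw [SubmonoidClass.coe_pow, ← hi, pow_one, ← zpow_natCast, ← zpow_mul, mul_comm, zpow_mul, zpow_natCast]
    have h1 : (⟨u, hn'⟩ : ↥(normalizer (P : Set D))) ^ q = 1 := Subtype.ext hu
    rw [h1, one_zpow]
    rfl
  let act : MulAction ↥U ↥P :=
    { smul := fun g x => ⟨((g : ↥(normalizer (P : Set D))) : D) * x * ((g : ↥(normalizer (P : Set D))) : D)⁻¹,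
        (mem_normalizer_iff.1 (g : ↥(normalizer (P : Set D))).2 x).1 x.2⟩
      one_smul := fun x => Subtype.ext (by
        show ((1 : D)) * x * (1 : D)⁻¹ = x
        group)
      mul_smul := fun a b x => Subtype.ext (by
        show (((a : ↥(normalizer (P : Set D))) : D) * ((b : ↥(normalizer (P : Set D))) : D)) * x *
          (((a : ↥(normalizer (P : Set D))) : D) * ((b : ↥(normalizer (P : Set D))) : D))⁻¹ =
          ((a : ↥(normalizer (P : Set D))) : D) * (((b : ↥(normalizer (P : Set D))) : D) * x *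
            ((b : ↥(normalizer (P : Set D))) : D)⁻¹) * ((a : ↥(normalizer (P : Set D))) : D)⁻¹
        group) }
  have hcard := hU.card_modEq_card_fixedPoints ↥P
  have hfix : Nat.card ↥(MulAction.fixedPoints ↥U ↥P) = Nat.card ↥C := by
    refine Nat.card_congr (Equiv.subtypeEquivRight fun x => ?_)
    rw [MulAction.mem_fixedPoints]
    show _ ↔ x ∈ C
    rw [mem_subgroupOf, mem_centralizer_singleton_iff]
    constructor
    · intro h
      have h1 : u * (x : D) * u⁻¹ = x := congrArg Subtype.val (h ⟨⟨u, hn'⟩, mem_zpowers _⟩)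
      exact (mul_inv_eq_iff_eq_mul.1 h1).symm
    · rintro h ⟨g, hg⟩
      obtain ⟨i, hi⟩ := mem_zpowers_iff.1 hg
      subst hi
      apply Subtype.ext
      show (((⟨u, hn'⟩ : ↥(normalizer (P : Set D))) ^ i : ↥(normalizer (P : Set D))) : D) * x *
        (((⟨u, hn'⟩ : ↥(normalizer (P : Set D))) ^ i : ↥(normalizer (P : Set D))) : D)⁻¹ = x
      rw [SubgroupClass.coe_zpow]
      have h2 : Commute (x : D) u := h
      exact mul_inv_eq_iff_eq_mul.2 (h2.zpow_right i).eq.symm
  obtain ⟨j, hj, hjc⟩ := (Nat.dvd_prime_pow hpp).1 hPm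
  obtain ⟨i, hi, hic⟩ := (Nat.dvd_prime_pow hpp).1
    (show Nat.card ↥C ∣ p ^ j by rw [← hjc]; exact card_subgroup_dvd_card C)
  rw [hfix, hic, hjc] at hcard
  have hij : i = j := by
    by_contra hne
    have hlt : i < j := lt_of_le_of_ne hi hne
    have h1 : q ∣ p ^ j - p ^ i := (Nat.modEq_iff_dvd' (Nat.pow_le_pow_right hpp.pos hi)).1 hcard.symm
    have h2 : p ^ j - p ^ i = p ^ i * (p ^ (j - i) - 1) := by
      rw [Nat.mul_sub, mul_one, ← pow_add, Nat.add_sub_cancel' hi]
    rw [h2] at h1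
    rcases hq.out.dvd_mul.1 h1 with h3 | h3
    · exact hqp ((Nat.prime_dvd_prime_iff_eq hq.out hpp).1 (hq.out.dvd_of_dvd_pow h3))
    · exact hdiv (j - i) (by omega) (by omega) h3
  have htop : C = ⊤ := by
    apply Subgroup.eq_top_of_card_eq
    rw [hic, hjc, hij]
  intro g hg
  have h1 : (⟨g, hg⟩ : ↥P) ∈ C := by rw [htop]; trivial
  exact mul_inv_eq_iff_eq_mul.2 (mem_centralizer_singleton_iff.1 (mem_subgroupOf.1 h1)).symm

/-- an involution without fixed points inverts -/
theorem inverts {D : Type*} [Group D] [Finite D] {P : Subgroup D} {z : D} (hz : z * z = 1)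
    (hn : ∀ g ∈ P, z * g * z⁻¹ ∈ P) (hfp : ∀ g ∈ P, z * g * z⁻¹ = g → g = 1) : ∀ g ∈ P, z * g * z⁻¹ = g⁻¹ := by
  have hzi : z⁻¹ = z := inv_eq_of_mul_eq_one_left hz
  let ψ : ↥P →* ↥P :=
    { toFun := fun g => ⟨z * g * z⁻¹, hn g g.2⟩
      map_one' := Subtype.ext (by show z * 1 * z⁻¹ = 1; group)
      map_mul' := fun a b => Subtype.ext (by
        show z * ((a : D) * b) * z⁻¹ = z * a * z⁻¹ * (z * b * z⁻¹)
        group) }
  have h1 : MonoidHom.FixedPointFree ψ := fun g hg => Subtype.ext (hfp g g.2 (congrArg Subtype.val hg))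
  have h2 : Function.Involutive ψ := by
    intro g
    apply Subtype.ext
    show z * (z * (g : D) * z⁻¹) * z⁻¹ = g
    calc z * (z * (g : D) * z⁻¹) * z⁻¹ = (z * z) * g * (z * z)⁻¹ := by group
      _ = g := by rw [hz]; group
  have h3 := h1.coe_eq_inv_of_involutive h2
  intro g hg
  have h4 : ψ ⟨g, hg⟩ = (⟨g, hg⟩ : ↥P)⁻¹ := congrFun h3 ⟨g, hg⟩
  exact congrArg Subtype.val h4

/-- squares and powers -/
theorem mul_self_pow {G : Type*} [Group G] (g : G) (n : ℕ) : g ^ n * g ^ n = (g * g) ^ n := by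
  rw [← pow_two, ← pow_two, ← pow_mul, ← pow_mul, mul_comm]

/-- conjugation and normalizers -/
theorem mem_normalizer_conj {G : Type*} [Group G] {P : Subgroup G} {g : G} (hg : g ∈ normalizer (P : Set G)) (s : G) :
    s * g * s⁻¹ ∈ normalizer ((P.map (MulAut.conj s).toMonoidHom : Subgroup G) : Set G) := by
  have key : ∀ h : G, h ∈ P.map (MulAut.conj s).toMonoidHom ↔ s⁻¹ * h * s ∈ P := by
    intro h
    constructor
    · rintro ⟨y, hy, rfl⟩
      have h1 : s⁻¹ * (s * y * s⁻¹) * s = y := by group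
      show s⁻¹ * (s * y * s⁻¹) * s ∈ P
      rw [h1]; exact hy
    · intro hh
      exact ⟨_, hh, by show s * (s⁻¹ * h * s) * s⁻¹ = h; group⟩
  rw [mem_normalizer_iff]
  intro h
  rw [key, key]
  have h1 : s⁻¹ * (s * g * s⁻¹ * h * (s * g * s⁻¹)⁻¹) * s = g * (s⁻¹ * h * s) * g⁻¹ := by group
  rw [h1]
  exact mem_normalizer_iff.1 hg _

section

variable {D : Type u} [Group D] [Finite D] {z : D} {X : Type v} [Group X]
  (φ : ↥(centralizer ({z} : Set D)) →* X)

/-- **An element of order `p` does not commute with an involution not conjugate to `z`.** -/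
theorem no_comm {p q m : ℕ} [Fact p.Prime] [Fact q.Prime] (h5 : 5 ≤ p) (hq5 : 5 ≤ q) (hqp : q ≠ p)
    (hdiv : ∀ i, 1 ≤ i → i ≤ m → ¬ q ∣ p ^ i - 1) (hD : ¬ p ^ (m + 1) ∣ Nat.card D)
    (hz : orderOf z = 2) (hiso : ∀ d : D, (d * z * d⁻¹) * z = z * (d * z * d⁻¹) → d * z * d⁻¹ = z)
    (hS : IsSimpleGroup X) (hev : Even (Nat.card X)) (hqX : q ∣ Nat.card X) (hφ : Function.Surjective φ) (hK : Ker φ)
    {k : ↥(centralizer ({z} : Set D))} (hk : k * k = zA)
    (hX : ∀ v : X, v * v = 1 → v ≠ 1 → ¬ p ∣ Nat.card ↥(centralizer ({v} : Set X)))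
    {x t : D} (hx : orderOf x = p) (ht : orderOf t = 2) (htz : ∀ d : D, d * t * d⁻¹ ≠ z) (hxt : x * t = t * x) :
    False := by
  classical
  have hpp : p.Prime := Fact.out
  have hqq : q.Prime := Fact.out
  have hz2 : z * z = 1 := by rw [← pow_two, ← hz, pow_orderOf_eq_one]
  have hz1 : z ≠ 1 := by rintro rfl; rw [orderOf_one] at hz; norm_num at hz
  have htt : t * t = 1 := by rw [← pow_two, ← ht, pow_orderOf_eq_one]
  have ht1 : t ≠ 1 := by rintro rfl; rw [orderOf_one] at ht; norm_num at ht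
  have hxp : x ^ p = 1 := by rw [← hx, pow_orderOf_eq_one]
  have hXf : Finite X := Finite.of_surjective φ hφ
  obtain ⟨N, F, hN, hNo, hsup, hF, hFc, hFN, hFk⟩ := exists_ext φ hz hiso hS hev hφ
  -- `F t ≠ 1`
  have hFt : F t ≠ 1 := by
    intro h
    obtain ⟨d, hd⟩ := exists_conj_comm hz hiso ht
    have h1 : φ ⟨d * t * d⁻¹, mem_centralizer_singleton_iff.2 hd⟩ = 1 := by
      rw [← hFc]
      show F (d * t * d⁻¹) = 1
      rw [map_mul, map_mul, h, mul_one, map_inv, mul_inv_cancel]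
    rcases hK.two _ h1 (Subtype.ext (by
      show d * t * d⁻¹ * (d * t * d⁻¹) = 1
      calc d * t * d⁻¹ * (d * t * d⁻¹) = d * (t * t) * d⁻¹ := by group
        _ = 1 := by rw [htt]; group)) with h2 | h2
    · have h3 : d * t * d⁻¹ = 1 := congrArg Subtype.val h2
      apply ht1
      calc t = d⁻¹ * (d * t * d⁻¹) * d := by group
        _ = 1 := by rw [h3]; group
    · exact htz d (congrArg Subtype.val h2)
  -- `F x = 1`
  have hFx : F x = 1 := by
    by_contra h
    refine hX (F t) (by rw [← map_mul, htt, map_one]) hFt ?_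
    have h1 : orderOf (F x) = p := orderOf_eq_prime (by rw [← map_pow, hxp, map_one]) h
    have h2 : F x ∈ centralizer ({F t} : Set X) :=
      mem_centralizer_singleton_iff.2 (by rw [← map_mul, hxt, map_mul])
    rw [← h1, ← Subgroup.orderOf_mk (F x) h2]
    exact orderOf_dvd_natCard _
  -- `x ∈ N`
  have hcop : Nat.Coprime p 6 := by
    rw [show (6 : ℕ) = 2 * 3 by norm_num]
    exact Nat.Coprime.mul_right ((Nat.coprime_primes hpp Nat.prime_two).2 (by omega))
      ((Nat.coprime_primes hpp Nat.prime_three).2 (by omega))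
  have hxN : x ∈ N := by
    obtain ⟨n, hn, c, hc, e⟩ := hFk x hFx
    have h1 : QuotientGroup.mk' N x = QuotientGroup.mk' N (c : D) := by
      rw [e, map_mul, show QuotientGroup.mk' N n = 1 from (QuotientGroup.eq_one_iff _).2 hn, one_mul]
    have h2 : QuotientGroup.mk' N x ^ 6 = 1 := by
      rw [h1, ← map_pow]
      have h3 : ((c : D)) ^ 6 = 1 := congrArg Subtype.val (hK.six c hc)
      rw [h3, map_one]
    have h3 : QuotientGroup.mk' N x ^ p = 1 := by rw [← map_pow, hxp, map_one]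
    have h4 : orderOf (QuotientGroup.mk' N x) ∣ 1 := by
      rw [← hcop]
      exact Nat.dvd_gcd (orderOf_dvd_of_pow_eq_one h3) (orderOf_dvd_of_pow_eq_one h2)
    exact (QuotientGroup.eq_one_iff _).1 (orderOf_eq_one_iff.1 (Nat.dvd_one.1 h4))
  have hpN : p ∣ Nat.card ↥N := by
    rw [← hx, ← Subgroup.orderOf_mk x hxN]
    exact orderOf_dvd_natCard _
  -- `[d, z] ∈ N`
  have hzN : ∀ d : D, (d * z * d⁻¹) * z ∈ N := by
    intro d
    have hg : d ∈ N ⊔ centralizer ({z} : Set D) := by rw [hsup]; trivial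
    obtain ⟨n, hn, c, hc, rfl⟩ := mem_sup_of_normal_left.1 hg
    have h1 : c * z * c⁻¹ = z := mul_inv_eq_iff_eq_mul.2 (mem_centralizer_singleton_iff.1 hc)
    have h2 : (n * c) * z * (n * c)⁻¹ * z = n * (z * n⁻¹ * z) := by
      calc (n * c) * z * (n * c)⁻¹ * z = n * (c * z * c⁻¹) * n⁻¹ * z := by group
        _ = n * (z * n⁻¹ * z) := by rw [h1]; group
    rw [h2]
    have h3 : z * n⁻¹ * z ∈ N := by
      have h4 := hN.conj_mem _ (inv_mem hn) z
      rwa [inv_eq_of_mul_eq_one_left hz2] at h4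
    exact mul_mem hn h3
  -- odd orders in `N`
  have hodd : ∀ n ∈ N, Odd (orderOf n) := by
    intro n hn
    rw [← Subgroup.orderOf_mk n hn]
    exact hNo.of_dvd_nat (orderOf_dvd_natCard _)
  -- a Sylow subgroup of `N` normalised by `z`
  obtain ⟨P, hPN, hPp, hP1, hPz, hPF⟩ : ∃ P : Subgroup D, P ≤ N ∧ IsPGroup p ↥P ∧ P ≠ ⊥ ∧ z ∈ normalizer (P : Set D) ∧
      ∀ d : D, ∃ n ∈ N, ∃ g ∈ normalizer (P : Set D), d = n * g := by
    let S : Sylow p ↥N := default
    let P0 : Subgroup D := (S : Subgroup ↥N).map N.subtype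
    have hfr : ∀ d : D, ∃ n ∈ N, ∃ g ∈ normalizer (P0 : Set D), d = n * g := by
      intro d
      have h1 : d ∈ normalizer (P0 : Set D) ⊔ N := by
        have := Sylow.normalizer_sup_eq_top S
        rw [this]; trivial
      rw [sup_comm] at h1
      obtain ⟨n, hn, g, hg, e⟩ := mem_sup_of_normal_left.1 h1
      exact ⟨n, hn, g, hg, e.symm⟩
    -- an involution of `N_D(P0)` in `z N`
    obtain ⟨n, hn, g, hg, e⟩ := hfr z
    -- `g = n⁻¹ z`
    have hgz : g * z ∈ N := by
      have h1 : g = n⁻¹ * z := by rw [e]; group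
      rw [h1, mul_assoc, hz2, mul_one]
      exact inv_mem hn
    have hgg : g * g ∈ N := by
      have h1 : g = n⁻¹ * z := by rw [e]; group
      have h2 : g * g = n⁻¹ * (z * n⁻¹ * z⁻¹) := by
        rw [inv_eq_of_mul_eq_one_left hz2, h1]; group
      rw [h2]
      exact mul_mem (inv_mem hn) (hN.conj_mem _ (inv_mem hn) z)
    obtain ⟨o, ho⟩ := hodd _ hgg
    -- `τ = g ^ |g²|`
    set τ := g ^ (2 * o + 1) with hτ
    have hττ : τ * τ = 1 := by
      rw [hτ, mul_self_pow, ← ho, pow_orderOf_eq_one]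
    have hτP : τ ∈ normalizer (P0 : Set D) := pow_mem hg _
    have hτz : z * τ ∈ N := by
      have h1 : z * τ = (z * g) * (g * g) ^ o := by
        rw [hτ, pow_succ', mul_assoc z g, pow_mul, pow_two]
      rw [h1]
      refine mul_mem ?_ (pow_mem hgg _)
      have h2 := hN.conj_mem _ hgz z
      have h3 : z * (g * z) * z⁻¹ = z * g := by group
      rwa [h3] at h2
    obtain ⟨s, hs, hsz⟩ := conj_of_odd hz2 hττ (hodd _ hτz)
    refine ⟨P0.map (MulAut.conj s).toMonoidHom, ?_, ?_, ?_, ?_, ?_⟩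
    · rintro _ ⟨y, ⟨y', -, rfl⟩, rfl⟩
      exact hN.conj_mem _ y'.2 s
    · exact (S.2.map N.subtype).map _
    · intro h
      have h1 : P0 = ⊥ := (Subgroup.map_eq_bot_iff_of_injective _ (MulAut.conj s).injective).1 h
      have h2 : (S : Subgroup ↥N) = ⊥ := (Subgroup.map_eq_bot_iff_of_injective _ N.subtype_injective).1 h1
      have h3 : p ∣ Nat.card ↥(S : Subgroup ↥N) := Sylow.dvd_card_of_dvd_card S hpN
      rw [h2, card_bot] at h3
      exact hpp.one_lt.ne' (Nat.dvd_one.1 h3)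
    · have h1 := mem_normalizer_conj hτP s
      rwa [hsz] at h1
    · intro d
      obtain ⟨n, hn, g, hg, e⟩ := hfr (s⁻¹ * d * s)
      refine ⟨s * n * s⁻¹, hN.conj_mem _ hn s, s * g * s⁻¹, mem_normalizer_conj hg s, ?_⟩
      calc d = s * (s⁻¹ * d * s) * s⁻¹ := by group
        _ = _ := by rw [e]; group
  -- `z` inverts `P`
  have hcz : ∀ g ∈ P, ∀ e : ℕ, g ^ e = 1 → Nat.Coprime p e → g = 1 := by
    intro g hg e he hpe
    obtain ⟨j, hj⟩ := hPp ⟨g, hg⟩
    have h1 : g ^ p ^ j = 1 := congrArg Subtype.val hj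
    have h2 : orderOf g ∣ 1 := by
      rw [← Nat.Coprime.pow_left j hpe]
      exact Nat.dvd_gcd (orderOf_dvd_of_pow_eq_one h1) (orderOf_dvd_of_pow_eq_one he)
    exact orderOf_eq_one_iff.1 (Nat.dvd_one.1 h2)
  have hfp : ∀ g ∈ P, z * g * z⁻¹ = g → g = 1 := by
    intro g hg hgz
    have hc : g ∈ centralizer ({z} : Set D) :=
      mem_centralizer_singleton_iff.2 (mul_inv_eq_iff_eq_mul.1 hgz).symm
    have h1 : φ ⟨g, hc⟩ = 1 := by
      rw [← hFc]
      exact hFN g (hPN hg)
    exact hcz g hg 6 (congrArg Subtype.val (hK.six _ h1)) hcop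
  have hPcard : Nat.card ↥P ∣ p ^ m := by
    obtain ⟨j, hj⟩ := IsPGroup.iff_card.1 hPp
    rw [hj]
    apply Nat.pow_dvd_pow
    by_contra hlt
    apply hD
    exact (Nat.pow_dvd_pow p (by omega : m + 1 ≤ j)).trans (hj ▸ card_subgroup_dvd_card P)
  -- `C(z) ∩ N(P)` covers `X`
  have hcov : ∀ v : X, ∃ a : ↥(centralizer ({z} : Set D)), (a : D) ∈ normalizer (P : Set D) ∧ φ a = v := by
    intro v
    obtain ⟨d0, rfl⟩ := hφ v
    obtain ⟨n, hn, g, hg, e⟩ := hPF d0
    have hFg : F g = φ d0 := by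
      rw [← hFc, e, map_mul, hFN n hn, one_mul]
    have h1 : (g * z * g⁻¹) * z ∈ N := hzN g
    have h2 : z * (g * z * g⁻¹) ∈ N := by
      have h3 : z * (g * z * g⁻¹) = ((g * z * g⁻¹) * z)⁻¹ := by
        rw [mul_inv_rev, mul_inv_rev, mul_inv_rev, inv_inv, inv_eq_of_mul_eq_one_left hz2]
        group
      rw [h3]
      exact inv_mem h1
    have h4 : (g * z * g⁻¹) * (g * z * g⁻¹) = 1 := by
      calc (g * z * g⁻¹) * (g * z * g⁻¹) = g * (z * z) * g⁻¹ := by group
        _ = 1 := by rw [hz2]; group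
    obtain ⟨s, hs, hsz⟩ := conj_of_odd hz2 h4 (hodd _ h2)
    have hsN : s ∈ N := (zpowers_le.2 h2) hs
    have hsP : s ∈ normalizer (P : Set D) :=
      (zpowers_le.2 (mul_mem hPz (mul_mem (mul_mem hg hPz) (inv_mem hg)))) hs
    have h5 : (s * g) * z * (s * g)⁻¹ = z := by
      calc (s * g) * z * (s * g)⁻¹ = s * (g * z * g⁻¹) * s⁻¹ := by group
        _ = z := hsz
    have h5' : (s * g) ∈ centralizer ({z} : Set D) := mem_centralizer_singleton_iff.2 (mul_inv_eq_iff_eq_mul.1 h5)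
    refine ⟨⟨s * g, h5'⟩, mul_mem hsP hg, ?_⟩
    rw [← hFc]
    show F (s * g) = φ d0
    rw [map_mul, hFN s hsN, one_mul, hFg]
  let A1 : Subgroup ↥(centralizer ({z} : Set D)) := (normalizer (P : Set D)).subgroupOf (centralizer ({z} : Set D))
  let Φ : ↥A1 →* X := φ.comp A1.subtype
  have hΦ : Function.Surjective Φ := by
    intro v
    obtain ⟨a, ha, hav⟩ := hcov v
    exact ⟨⟨a, mem_subgroupOf.2 ha⟩, hav⟩
  have hconj : ∀ a : ↥A1, ∀ g : D, g ∈ P ↔ ((a : ↥(centralizer ({z} : Set D))) : D) * g *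
      ((a : ↥(centralizer ({z} : Set D))) : D)⁻¹ ∈ P :=
    fun a g => mem_normalizer_iff.1 (mem_subgroupOf.1 a.2) g
  -- an element of order `q`
  obtain ⟨u, hu⟩ := exists_prime_orderOf_dvd_card' (G := ↥A1) q (hqX.trans (card_dvd_of_surjective Φ hΦ))
  have hu1 : Φ u ≠ 1 := by
    intro h
    have h1 : u ^ 6 = 1 := Subtype.ext (hK.six (u : ↥(centralizer ({z} : Set D))) h)
    have h2 : q ∣ 6 := by rw [← hu]; exact orderOf_dvd_of_pow_eq_one h1
    have h3 : q ∣ 2 * 3 := h2
    rcases hqq.dvd_mul.1 h3 with h4 | h4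
    · have := Nat.le_of_dvd (by norm_num) h4; omega
    · have := Nat.le_of_dvd (by norm_num) h4; omega
  let K1 : Subgroup ↥A1 :=
    ((centralizer (P : Set D)).subgroupOf (centralizer ({z} : Set D))).subgroupOf A1
  have hK1 : ∀ a : ↥A1, a ∈ K1 ↔ ∀ g ∈ P, ((a : ↥(centralizer ({z} : Set D))) : D) * g *
      ((a : ↥(centralizer ({z} : Set D))) : D)⁻¹ = g := by
    intro a
    constructor
    · intro ha g hg
      have h1 := mem_centralizer_iff.1 (mem_subgroupOf.1 (mem_subgroupOf.1 ha)) g hg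
      exact mul_inv_eq_iff_eq_mul.2 h1.symm
    · intro ha
      refine mem_subgroupOf.2 (mem_subgroupOf.2 (mem_centralizer_iff.2 fun g hg => ?_))
      exact (mul_inv_eq_iff_eq_mul.1 (ha g hg)).symm
  have hK1n : K1.Normal := by
    refine ⟨fun a ha b => ?_⟩
    rw [hK1] at ha ⊢
    intro g hg
    have h1 : ((b : ↥(centralizer ({z} : Set D))) : D)⁻¹ * g * ((b : ↥(centralizer ({z} : Set D))) : D) ∈ P := by
      have h2 := (hconj b⁻¹ g).1 hg
      have h3 : (((b⁻¹ : ↥A1) : ↥(centralizer ({z} : Set D))) : D) = ((b : ↥(centralizer ({z} : Set D))) : D)⁻¹ := rfl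
      rwa [h3, inv_inv] at h2
    have h2 := ha _ h1
    show (((b : ↥(centralizer ({z} : Set D))) : D) * ((a : ↥(centralizer ({z} : Set D))) : D) *
      ((b : ↥(centralizer ({z} : Set D))) : D)⁻¹) * g * (((b : ↥(centralizer ({z} : Set D))) : D) *
      ((a : ↥(centralizer ({z} : Set D))) : D) * ((b : ↥(centralizer ({z} : Set D))) : D)⁻¹)⁻¹ = g
    calc _ = ((b : ↥(centralizer ({z} : Set D))) : D) * (((a : ↥(centralizer ({z} : Set D))) : D) *
          (((b : ↥(centralizer ({z} : Set D))) : D)⁻¹ * g * ((b : ↥(centralizer ({z} : Set D))) : D)) *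
          ((a : ↥(centralizer ({z} : Set D))) : D)⁻¹) * ((b : ↥(centralizer ({z} : Set D))) : D)⁻¹ := by group
      _ = g := by rw [h2]; group
  have huK : u ∈ K1 := by
    rw [hK1]
    have huq : (((u : ↥(centralizer ({z} : Set D))) : D)) ^ q = 1 := by
      have h1 : u ^ q = 1 := by rw [← hu, pow_orderOf_eq_one]
      exact congrArg (fun w : ↥A1 => ((w : ↥(centralizer ({z} : Set D))) : D)) h1
    exact acts_trivially hqp hdiv hPp hPcard huq (fun g hg => (hconj u g).1 hg)
  have hKtop : K1.map Φ = ⊤ := by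
    have h1 : (K1.map Φ).Normal := hK1n.map Φ hΦ
    rcases h1.eq_bot_or_eq_top with h | h
    · exfalso
      apply hu1
      have h2 : Φ u ∈ K1.map Φ := mem_map_of_mem Φ huK
      rw [h] at h2
      exact mem_bot.1 h2
    · exact h
  -- an element of `K1` above `φ k`
  obtain ⟨κ, hκ, hκk⟩ : φ k ∈ K1.map Φ := by rw [hKtop]; trivial
  have hc : φ (k⁻¹ * (κ : ↥(centralizer ({z} : Set D)))) = 1 := by
    have h1 : φ (κ : ↥(centralizer ({z} : Set D))) = φ k := hκk
    rw [map_mul, map_inv, h1, inv_mul_cancel]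
  have hzA : (κ : ↥(centralizer ({z} : Set D))) ^ 6 = zA := by
    set c := k⁻¹ * (κ : ↥(centralizer ({z} : Set D))) with hcdef
    have h1 : (κ : ↥(centralizer ({z} : Set D))) = k * c := by rw [hcdef]; group
    have h2 : Commute k c := hK.cen c hc k
    have h3 : (zA : ↥(centralizer ({z} : Set D))) * zA = 1 := Subtype.ext hz2
    rw [h1, h2.mul_pow, hK.six c hc, mul_one, show (6 : ℕ) = 2 * 3 by norm_num, pow_mul, pow_two k, hk,
      pow_succ, pow_two, h3, one_mul]
  have hκ6 : κ ^ 6 ∈ K1 := pow_mem hκ 6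
  have hzc : ∀ g ∈ P, z * g * z⁻¹ = g := by
    intro g hg
    have h1 := (hK1 _).1 hκ6 g hg
    have h2 : (((κ ^ 6 : ↥A1) : ↥(centralizer ({z} : Set D))) : D) = z := congrArg Subtype.val hzA
    rwa [h2] at h1
  apply hP1
  rw [eq_bot_iff]
  intro g hg
  exact mem_bot.2 (hfp g hg (hzc g hg))

end

end Cfsg.Agent.MThirteen

end

-- merged: Cfsg.Agent.MThirteen.Quo
section

/-!
# Elements of order 13 commuting with an element of order 3 and an involution of the Monster: fixed ranks 8, 12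
(helper75)

* `NoThree X` : in `X` the centralizer of a commuting pair (element of order 13, involution) has no element of order 3;
* `noThree_th`, `noThree_fi` : `Th` and `Fi24'`;
* `not_nine` : the passage from `C(y)/⟨y⟩` to `C(y)`.
-/

set_option autoImplicit false

namespace Cfsg.Agent.MThirteen

open Subgroup Cfsg Cfsg.Agent.LThree Cfsg.Agent.LThreeMB Cfsg.Agent.MonsterU Cfsg.Agent.MonsterU.Ch
open Cfsg.Agent.MonsterU.Lam2 (L2 IsType)
open Cfsg.Spor (Co1)

universe u v

/-- no element of order 3 centralizes an element of order 13 and a commuting involution -/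
def NoThree (X : Type u) [Group X] : Prop := ∀ x t w : X, orderOf x = 13 → orderOf t = 2 → x * t = t * x →
  w ^ 3 = 1 → w * x = x * w → w * t = t * w → w = 1

theorem NoThree.congr {X : Type u} {Y : Type v} [Group X] [Group Y] (e : X ≃* Y) (h : NoThree X) : NoThree Y := by
  intro x t w hx ht hxt hw hwx hwt
  have key : ∀ {a b : Y}, a * b = b * a → e.symm a * e.symm b = e.symm b * e.symm a := fun {a b} hab => by
    rw [← map_mul, hab, map_mul]
  have h1 := h (e.symm x) (e.symm t) (e.symm w) (by rw [MulEquiv.orderOf_eq, hx]) (by rw [MulEquiv.orderOf_eq, ht])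
    (key hxt) (by rw [← map_pow, hw, map_one]) (key hwx) (key hwt)
  rw [← e.apply_symm_apply w, h1, map_one]

theorem dvd_cent {X : Type u} [Group X] {x t : X} (hx : orderOf x = 13) (hxt : x * t = t * x) :
    13 ∣ Nat.card ↥(centralizer ({t} : Set X)) := by
  rw [← hx, ← Subgroup.orderOf_mk x (mem_centralizer_singleton_iff.2 hxt)]
  exact orderOf_dvd_natCard _

theorem card_cent_conj {X : Type u} [Group X] {s t : X} (h : IsConj s t) :
    Nat.card ↥(centralizer ({s} : Set X)) = Nat.card ↥(centralizer ({t} : Set X)) := by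
  obtain ⟨c, hc⟩ := isConj_iff.1 h
  rw [← hc]
  exact LThreeB.card_centralizer_congr (MulAut.conj c) s

/-! ### `Th` -/

theorem noThree_th : NoThree Spor.Th := by
  intro x t w hx ht hxt _ _ _
  exfalso
  have h1 := dvd_cent hx hxt
  rw [← card_cent_conj (MonsterX.ThOneClass.oneClass _ _ MonsterX.ThOneClass.orderOf_a ht)] at h1
  obtain ⟨Q, hQ, hc, -, -, ⟨e⟩⟩ := MonsterX.ThOneClass.struct
  rw [Subgroup.card_eq_card_quotient_mul_card_subgroup Q, hc, Nat.card_congr e.toEquiv,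
    nat_card_alternatingGroup, Nat.card_fin] at h1
  revert h1
  decide

/-! ### `Fi24'` -/

open Cfsg.Agent.R08 Cfsg.Agent.R08.FiTwentyFour in
/-- products of two commuting transpositions -/
theorem noThree_pair {a b : Spor.Fi24} (P : Cfsg.Agent.R08.TetFi24A.At a b) {x t w : Spor.Fi24'}
    (ht : (t : Spor.Fi24) = a * b) (hx : orderOf x = 13) (hxt : x * t = t * x) (hw : w ^ 3 = 1)
    (hwx : w * x = x * w) (hwt : w * t = t * w) : w = 1 := by
  -- squares in `C(t)` are in `Cab`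
  have sqm : ∀ y : Spor.Fi24', y * t = t * y → ((y * y : Spor.Fi24') : Spor.Fi24) ∈ Cab a b := by
    intro y hy
    have h1 := CTwoTab.FiTF.fix_or_swap P ht (mem_centralizer_singleton_iff.2 hy)
    have h2 : ((y * y : Spor.Fi24') : Spor.Fi24) * a * ((y * y : Spor.Fi24') : Spor.Fi24)⁻¹ = a ∧
        ((y * y : Spor.Fi24') : Spor.Fi24) * b * ((y * y : Spor.Fi24') : Spor.Fi24)⁻¹ = b := by
      have e : ∀ c : Spor.Fi24, ((y * y : Spor.Fi24') : Spor.Fi24) * c * ((y * y : Spor.Fi24') : Spor.Fi24)⁻¹ =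
          (y : Spor.Fi24) * ((y : Spor.Fi24) * c * (y : Spor.Fi24)⁻¹) * (y : Spor.Fi24)⁻¹ := by
        intro c
        rw [Subgroup.coe_mul]
        group
      rw [e, e]
      rcases h1 with ⟨h3, h4⟩ | ⟨h3, h4⟩ <;> simp only [h3, h4, and_self]
    rw [mem_Cab]
    exact ⟨mem_commutator_iff.1 (y * y : Spor.Fi24').2, mul_inv_eq_iff_eq_mul.1 h2.1, mul_inv_eq_iff_eq_mul.1 h2.2⟩
  have hx13 : x ^ 13 = 1 := by rw [← hx, pow_orderOf_eq_one]
  have hxe : x = x ^ 7 * x ^ 7 := by
    rw [← pow_add, show 7 + 7 = 13 + 1 by norm_num, pow_succ, hx13, one_mul]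
  have hwe : w = w ^ 2 * w ^ 2 := by
    rw [← pow_add, show 2 + 2 = 3 + 1 by norm_num, pow_succ, hw, one_mul]
  have cp : ∀ {y : Spor.Fi24'} (n : ℕ), y * t = t * y → y ^ n * t = t * y ^ n := fun {y} n hy => by
    have h : Commute y t := hy
    exact (h.pow_left n).eq
  have hxm : (x : Spor.Fi24) ∈ Cab a b := by rw [hxe]; exact sqm _ (cp 7 hxt)
  have hwm : (w : Spor.Fi24) ∈ Cab a b := by rw [hwe]; exact sqm _ (cp 2 hwt)
  let x' : ↥(Cab a b) := ⟨x, hxm⟩
  let w' : ↥(Cab a b) := ⟨w, hwm⟩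
  have hx' : x' ^ 13 = 1 := Subtype.ext (congrArg (fun g : Spor.Fi24' => (g : Spor.Fi24)) hx13)
  have hw' : w' ^ 3 = 1 := Subtype.ext (congrArg (fun g : Spor.Fi24' => (g : Spor.Fi24)) hw)
  have hker : ∀ k : ↥(Cab a b), P.π k = 1 → k * k = 1 := by
    intro k hk
    have h1 : k ∈ P.π.ker := hk
    rw [MonoidHom.mem_ker, P.lift.ext.ker] at h1
    rcases h1 with rfl | rfl
    · rw [mul_one]
    · apply Subtype.ext
      show (P.z : Spor.Fi24) * (P.z : Spor.Fi24) = 1
      rw [P.hz]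
      have h2 : Commute a b := P.ab
      have h3 : a * a = 1 := P.aa
      have h4 : b * b = 1 := sq P.hb
      calc a * b * (a * b) = a * (b * a) * b := by group
        _ = a * (a * b) * b := by rw [h2.eq]
        _ = (a * a) * (b * b) := by group
        _ = 1 := by rw [h3, h4, one_mul]
  have hx1 : x' ≠ 1 := by
    intro h
    have h1 : x = 1 := Subtype.ext (congrArg (fun g : ↥(Cab a b) => (g : Spor.Fi24)) h)
    rw [h1, orderOf_one] at hx
    norm_num at hx
  have hp : orderOf (P.π x') = 13 := by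
    have : Fact (Nat.Prime 13) := ⟨by norm_num⟩
    refine orderOf_eq_prime (by rw [← map_pow, hx', map_one]) fun h => hx1 ?_
    have h2 := hker _ h
    have h3 : x' ^ 13 = (x' * x') ^ 6 * x' := by
      rw [← pow_two, ← pow_mul, ← pow_succ]
    rw [hx', h2, one_pow, one_mul] at h3
    exact h3.symm
  have hc : P.π w' * P.π x' = P.π x' * P.π w' := by
    rw [← map_mul, ← map_mul]
    congr 1
    exact Subtype.ext (congrArg (fun g : Spor.Fi24' => (g : Spor.Fi24)) hwx)
  have h13 := PreUniqCo.FiTwentyTwo.thirteen (MulEquiv.refl Spor.Fi22) hp hc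
  have h3 : P.π w' ^ 3 = 1 := by rw [← map_pow, hw', map_one]
  have hw1 : P.π w' = 1 := by
    calc P.π w' = (P.π w') ^ 13 * (((P.π w') ^ 3) ^ 4)⁻¹ := by group
      _ = 1 := by rw [h13, h3, one_pow, inv_one, one_mul]
  have h2 := hker _ hw1
  have hw2 : w' = 1 := by
    have h5 : w' ^ 3 = (w' * w') * w' := by rw [← pow_two, ← pow_succ]
    rw [hw', h2, one_mul] at h5
    exact h5.symm
  exact Subtype.ext (congrArg (fun g : ↥(Cab a b) => (g : Spor.Fi24)) hw2)

/-- **`Fi24'`**, from a 2-central involution. -/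
theorem noThree_fi24 {X : Type u} [Group X] (h : Spor.IsoFi24' X) {t : X} (ht : orderOf t = 2)
    (h13 : ¬ 13 ∣ Nat.card ↥(centralizer ({t} : Set X))) : NoThree Spor.Fi24' := by
  obtain ⟨e⟩ := h
  have het : orderOf (e t) = 2 := by rw [MulEquiv.orderOf_eq, ht]
  rw [LThreeB.card_centralizer_congr e] at h13
  obtain ⟨g, hg⟩ : ∃ g : Spor.Fi24', e t = g * CTwoTab.FiTF.z0 * g⁻¹ := by
    rcases CTwoTab.FiTF.classes (e t) het with ⟨a, b, P, h1⟩ | h1
    · exact absurd (LThreeB.dvd_pair P h1) h13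
    · exact h1
  have hz : ¬ 13 ∣ Nat.card ↥(centralizer ({CTwoTab.FiTF.z0} : Set Spor.Fi24')) := by
    rwa [card_cent_conj (isConj_iff.2 ⟨g, hg.symm⟩)]
  intro x s w hx hs hxs hw hwx hws
  rcases CTwoTab.FiTF.classes s hs with ⟨a, b, P, h1⟩ | ⟨c, hc⟩
  · exact noThree_pair P h1 hx hxs hw hwx hws
  · exfalso
    apply hz
    rw [card_cent_conj (isConj_iff.2 ⟨c, hc.symm⟩)]
    exact dvd_cent hx hxs

section

variable {G : Type u} [Group G] {Q : Subgroup G} {z : G} {eta : G → L2}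
  {pi : Subgroup.centralizer ({z} : Set G) →* Co1}

/-- **`Fi24'`**, from the Monster. -/
theorem noThree_fi [Finite G] [IsSimpleGroup G] (h : Chart Q z eta pi) (I : CoOne) : NoThree Spor.Fi24' := by
  obtain ⟨s, hs, hfs, ht, h4⟩ := I.psu
  obtain ⟨x, hx, rfl⟩ := KPair.exists_order_three h hs
  obtain ⟨h1, -, h3⟩ := LThreeB.ser_tt.{u, 0} h hx hfs ht
  exact noThree_fi24 (iso_fi24 h hx hfs (by rw [hfs]; exact I.twelve) ht h4) h1 h3

end

/-- **From `C(y)/⟨y⟩` to `C(y)`.** -/
theorem not_nine {G : Type u} [Group G] [Finite G] {y : G} (hy : orderOf y = 3) (h : NoThree (XX y)) {x t : G}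
    (hx : orderOf x = 13) (ht : orderOf t = 2) (hxt : x * t = t * x) (hxy : x * y = y * x) (hty : t * y = y * t) :
    ¬ 9 ∣ Nat.card ↥((centralizer ({x} : Set G) ⊓ centralizer ({t} : Set G)) ⊓ centralizer ({y} : Set G)) := by
  have : Fact (Nat.Prime 3) := ⟨Nat.prime_three⟩
  have : Fact (Nat.Prime 13) := ⟨by norm_num⟩
  intro h9
  let R := (centralizer ({x} : Set G) ⊓ centralizer ({t} : Set G)) ⊓ centralizer ({y} : Set G)
  let f0 : ↥R →* ↥(centralizer ({y} : Set G)) := Subgroup.inclusion inf_le_right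
  let f : ↥R →* XX y := (QuotientGroup.mk' (Zx y)).comp f0
  have hker : Nat.card ↥f.ker ∣ 3 := by
    rw [← LThreeB.card_Zx hy]
    let g : ↥f.ker →* ↥(Zx y) := (f0.comp f.ker.subtype).codRestrict (Zx y) fun k => by
      have h1 : QuotientGroup.mk' (Zx y) (f0 k) = 1 := k.2
      exact (QuotientGroup.eq_one_iff _).1 h1
    have hg : Function.Injective g := by
      intro a b hab
      have h1 : f0 a = f0 b := congrArg Subtype.val hab
      exact Subtype.ext (Subgroup.inclusion_injective inf_le_right h1)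
    exact card_dvd_of_injective g hg
  have h3 : 3 ∣ Nat.card ↥f.range := by
    have h1 : Nat.card ↥R = Nat.card ↥f.range * Nat.card ↥f.ker := by
      rw [Subgroup.card_eq_card_quotient_mul_card_subgroup f.ker,
        Nat.card_congr (QuotientGroup.quotientKerEquivRange f).toEquiv]
    have h2 : 9 ∣ Nat.card ↥f.range * Nat.card ↥f.ker := by rw [← h1]; exact h9
    rcases (Nat.dvd_prime Nat.prime_three).1 hker with h4 | h4
    · rw [h4, mul_one] at h2
      exact (by norm_num : 3 ∣ 9).trans h2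
    · rw [h4] at h2
      exact Nat.dvd_of_mul_dvd_mul_right (by norm_num : 0 < 3) h2
  obtain ⟨⟨w, r, rfl⟩, hw⟩ := exists_prime_orderOf_dvd_card' (G := ↥f.range) 3 h3
  rw [← Subgroup.orderOf_coe] at hw
  have hw' : orderOf (f r) = 3 := hw
  let xc : ↥(centralizer ({y} : Set G)) := ⟨x, mem_centralizer_singleton_iff.2 hxy⟩
  let tc : ↥(centralizer ({y} : Set G)) := ⟨t, mem_centralizer_singleton_iff.2 hty⟩
  have hxc : xc ^ 13 = 1 := Subtype.ext (by show x ^ 13 = 1; rw [← hx, pow_orderOf_eq_one])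
  have htc : tc ^ 2 = 1 := Subtype.ext (by show t ^ 2 = 1; rw [← ht, pow_orderOf_eq_one])
  have hcube : ∀ k : ↥(centralizer ({y} : Set G)), QuotientGroup.mk' (Zx y) k = 1 → (k : G) ^ 3 = 1 := by
    intro k hk
    have h1 : k ∈ Zx y := (QuotientGroup.eq_one_iff _).1 hk
    have h2 : (⟨k, h1⟩ : ↥(Zx y)) ^ 3 = 1 := by
      rw [← LThreeB.card_Zx hy]
      exact pow_card_eq_one'
    exact congrArg (fun g : ↥(Zx y) => ((g : ↥(centralizer ({y} : Set G))) : G)) h2
  have hr := (mem_inf.1 r.2)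
  have hrx : (r : G) * x = x * r := mem_centralizer_singleton_iff.1 (mem_inf.1 hr.1).1
  have hrt : (r : G) * t = t * r := mem_centralizer_singleton_iff.1 (mem_inf.1 hr.1).2
  have key := h (QuotientGroup.mk' (Zx y) xc) (QuotientGroup.mk' (Zx y) tc) (f r)
    (orderOf_eq_prime (by rw [← map_pow, hxc, map_one]) fun h1 => by
      have h2 := orderOf_dvd_of_pow_eq_one (hcube _ h1)
      have h3 : orderOf x ∣ 3 := h2
      rw [hx] at h3
      norm_num at h3)
    (orderOf_eq_prime (by rw [← map_pow, htc, map_one]) fun h1 => by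
      have h2 := orderOf_dvd_of_pow_eq_one (hcube _ h1)
      have h3 : orderOf t ∣ 3 := h2
      rw [ht] at h3
      norm_num at h3)
    (by rw [← map_mul, ← map_mul]; congr 1; exact Subtype.ext hxt)
    (by rw [← hw', pow_orderOf_eq_one])
    (by
      show QuotientGroup.mk' (Zx y) (f0 r) * _ = _ * QuotientGroup.mk' (Zx y) (f0 r)
      rw [← map_mul, ← map_mul]; congr 1; exact Subtype.ext hrx)
    (by
      show QuotientGroup.mk' (Zx y) (f0 r) * _ = _ * QuotientGroup.mk' (Zx y) (f0 r)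
      rw [← map_mul, ← map_mul]; congr 1; exact Subtype.ext hrt)
  rw [key, orderOf_one] at hw'
  norm_num at hw'

end Cfsg.Agent.MThirteen

end

-- merged: Cfsg.Agent.MThirteen.Main
section

/-!
# `C_M(x) ∩ C_M(t)`, `x` of order 13 (helper75)

`M` the Monster, `t` an involution not conjugate to `z`, `x` of order 13 commuting with `t`, `y` of order 3 commuting
with `z`, `x`, `t`.

* `suz_cent` : the centralizers of the involutions of the Suzuki group have order prime to 13;
* `exists_sq_zD` : fixed rank 0, an element of square `z` of `C(y) ∩ C(z)`;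
* `zero` : there is no such `y` of fixed rank 0;
* `nine_of_comm` : `9` does not divide the order of `C(x) ∩ C(t) ∩ C(y)`.
-/

set_option autoImplicit false

namespace Cfsg.Agent.MThirteen

open Cfsg Cfsg.Agent.MonsterU Cfsg.Agent.LThree Cfsg.Agent.LThreeMB
open Cfsg.Agent.MonsterU.Ch
open Cfsg.Agent.MonsterU.Lam2 (L2)
open Cfsg.Spor (Co1)
open Cfsg.Agent.MonsterX.KSide Cfsg.Agent.MonsterX.KLift
open Subgroup (centralizer zpowers mem_centralizer_singleton_iff)

universe u v

/-! ### The Suzuki group -/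

/-- the centralizers of the involutions of the Suzuki group have order prime to 13 -/
theorem suz_cent {X : Type u} [Group X] (h : Spor.IsoSuz X) (v : X) (hv : v * v = 1) (hv1 : v ≠ 1) :
    ¬ 13 ∣ Nat.card ↥(centralizer ({v} : Set X)) := by
  obtain ⟨e⟩ := h
  rw [LThreeB.card_centralizer_congr e]
  rcases CTwoTab.Suz.classes (t := e v) (by rw [← map_mul, hv, map_one])
    (fun h1 => hv1 (e.injective (by rw [h1, map_one]))) with h2 | h2
  · rw [← card_cent_conj h2, SuzThree.CentCard.card_C1]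
    norm_num
  · rw [← card_cent_conj h2, KFacts.SuzTwoB.card_CE]
    norm_num

/-! ### Fixed rank 0 -/

section

variable {G : Type u} {V P W : Type*} [Group G] [AddCommGroup V] [Module ℚ V]
  [DistribMulAction G V] [SMulCommClass G ℚ V] [Group P] [AddCommGroup W] [Module ℚ W]
  {M : KS G V P W} {θ : leechLattice → P}

/-- no element of order 7 of `C(y) ∩ C(z)` commutes with an involution outside `⟨y, z⟩` -/
theorem seven (L : Lift M θ) (hc : KChart.Cent M) {x : centralizer ({M.z} : Set G)} (hx3 : x ^ 3 = 1)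
    (hfr : fr (KChart.pi hc x) = 1) (t g : ↥(centralizer ({zD x} : Set ↥(centralizer ({(x : G)} : Set G)))))
    (htt : t * t = 1) (ht1 : toXX (KChart.pi hc) x t ≠ 1) (hg : g ^ 7 = 1) (hgt : g * t = t * g) : g = 1 := by
  -- `t`, `g` in `C(z)`
  have hmem : ∀ k : ↥(centralizer ({zD x} : Set ↥(centralizer ({(x : G)} : Set G)))),
      ((k : ↥(centralizer ({(x : G)} : Set G))) : G) ∈ centralizer ({M.z} : Set G) := fun k =>
    mem_centralizer_singleton_iff.2 (congrArg Subtype.val (mem_centralizer_singleton_iff.1 k.2))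
  have h1 : (⟨_, hmem g⟩ : centralizer ({M.z} : Set G)) = 1 := by
    refine LThreeBX.NoSeven.no_seven L hc hx3 hfr (t := ⟨_, hmem t⟩) (g := ⟨_, hmem g⟩) ?_ ?_ ?_ ?_ ?_ ?_
    · exact Subtype.ext (congrArg (fun g : ↥(centralizer ({zD x} : Set ↥(centralizer ({(x : G)} : Set G)))) =>
        ((g : ↥(centralizer ({(x : G)} : Set G))) : G)) htt)
    · intro h2
      apply ht1
      refine (QuotientGroup.eq_one_iff _).2 ?_
      have h3 : be (KChart.pi hc) x (toCC x t) = 1 := Subtype.ext h2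
      show be (KChart.pi hc) x (toCC x t) ∈ Zx (KChart.pi hc x)
      rw [h3]
      exact Subgroup.one_mem _
    · exact Subtype.ext (congrArg (fun g : ↥(centralizer ({zD x} : Set ↥(centralizer ({(x : G)} : Set G)))) =>
        ((g : ↥(centralizer ({(x : G)} : Set G))) : G)) hg)
    · exact Subtype.ext (mem_centralizer_singleton_iff.1 t.1.2).symm
    · exact Subtype.ext (congrArg (fun g : ↥(centralizer ({zD x} : Set ↥(centralizer ({(x : G)} : Set G)))) =>
        ((g : ↥(centralizer ({(x : G)} : Set G))) : G)) hgt)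
    · exact Subtype.ext (mem_centralizer_singleton_iff.1 g.1.2).symm
  exact Subtype.ext (Subtype.ext (congrArg (fun q : centralizer ({M.z} : Set G) => (q : G)) h1))

/-- **Fixed rank 0: an element of square `z` in `C(y) ∩ C(z)`.** -/
theorem exists_sq_zD (L : Lift M θ) (hc : KChart.Cent M) {x : centralizer ({M.z} : Set G)}
    (hx : orderOf x = 3) (hfr : fr (KChart.pi hc x) = 1) (hS : Spor.IsoSuz (XX (KChart.pi hc x))) :
    ∃ k : ↥(centralizer ({zD x} : Set ↥(centralizer ({(x : G)} : Set G)))), k * k = LThreeBX.Abs.zA := by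
  have h := KChart.chart L hc
  have hx3 : x ^ 3 = 1 := by rw [← hx, pow_orderOf_eq_one]
  exact exists_sq (z := zD x) (toXX (KChart.pi hc) x) (toXX_surj h hx3) (LThreeBX.Main.ker h hx3 hfr)
    (Subtype.ext h.large.z_sq) hS (seven L hc hx3 hfr)

/-- **Fixed rank 0: an element of square `z` in `C(y) ∩ C(z)`**, in `G`. -/
theorem exists_sq_z (L : Lift M θ) (hc : KChart.Cent M) {x : centralizer ({M.z} : Set G)}
    (hx : orderOf x = 3) (hfr : fr (KChart.pi hc x) = 1) (hS : Spor.IsoSuz (XX (KChart.pi hc x))) :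
    ∃ k : G, k * k = M.z ∧ k * (x : G) = x * k := by
  obtain ⟨k, hk⟩ := exists_sq_zD L hc hx hfr hS
  refine ⟨((k : ↥(centralizer ({(x : G)} : Set G))) : G), ?_, mem_centralizer_singleton_iff.1 k.1.2⟩
  exact congrArg (fun g : ↥(centralizer ({zD x} : Set ↥(centralizer ({(x : G)} : Set G)))) =>
    ((g : ↥(centralizer ({(x : G)} : Set G))) : G)) hk

/-- **Fixed rank 0.** -/
theorem zero [Finite G] (hG : ¬ 13 ^ 4 ∣ Nat.card G) (L : Lift M θ) (hc : KChart.Cent M)
    (ht : TrNe M.z (KChart.pi hc)) {y : centralizer ({M.z} : Set G)} (hy : orderOf y = 3)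
    (hfr : fr (KChart.pi hc y) = 1) (hS : Spor.IsoSuz (XX (KChart.pi hc y))) {x t : G} (hx : orderOf x = 13)
    (hto : orderOf t = 2) (htz : ∀ g : G, g * t * g⁻¹ ≠ M.z) (hxt : x * t = t * x) (hxy : x * (y : G) = y * x)
    (hty : t * (y : G) = y * t) : False := by
  have h := KChart.chart L hc
  have hy3 : y ^ 3 = 1 := by rw [← hy, pow_orderOf_eq_one]
  have : Fact (Nat.Prime 13) := ⟨by norm_num⟩
  have : Fact (Nat.Prime 11) := ⟨by norm_num⟩
  obtain ⟨k, hk⟩ := exists_sq_zD L hc hy hfr hS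
  have hcS : Nat.card (XX (KChart.pi hc y)) = 448345497600 := by
    obtain ⟨e⟩ := hS
    rw [Nat.card_congr e.toEquiv]
    exact SporadicRecognition.SuzOrder.card_Suz
  refine no_comm (z := zD y) (toXX (KChart.pi hc) y) (p := 13) (q := 11) (m := 3) (by norm_num) (by norm_num)
    (by norm_num) ?_ ?_ ?_ ?_ (Listed.suz hS : Good.{u} _).simple ?_ ?_ (toXX_surj h hy3)
    (LThreeBX.Main.ker h hy3 hfr) hk (suz_cent hS) (x := ⟨x, mem_centralizer_singleton_iff.2 hxy⟩)
    (t := ⟨t, mem_centralizer_singleton_iff.2 hty⟩) ?_ ?_ ?_ ?_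
  · intro i hi1 hi3
    interval_cases i <;> norm_num
  · intro h1
    exact hG (h1.trans (Subgroup.card_subgroup_dvd_card _))
  · rw [← Subgroup.orderOf_coe]
    exact LargeExtra.Base.orderOf_z h.large
  · intro d hd
    exact Subtype.ext (isolated h ht hy hfr d (mem_centralizer_singleton_iff.1 d.2) (congrArg Subtype.val hd))
  · rw [hcS]
    decide
  · rw [hcS]
    norm_num
  · rw [← Subgroup.orderOf_coe]
    exact hx
  · rw [← Subgroup.orderOf_coe]
    exact hto
  · intro d hd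
    exact htz d (congrArg Subtype.val hd)
  · exact Subtype.ext hxt

end

/-! ### All ranks -/

/-- no subgroup of order 9 of `C(x) ∩ C(t)`, `x` of order 13, centralizes `y` -/
def Nn {G : Type u} [Group G] (y t : G) : Prop := ∀ x : G, orderOf x = 13 → x * t = t * x → x * y = y * x →
  ¬ 9 ∣ Nat.card ↥((centralizer ({x} : Set G) ⊓ centralizer ({t} : Set G)) ⊓ centralizer ({y} : Set G))

theorem nn_conj {G : Type u} [Group G] {y t g : G} (h : Nn (g * y * g⁻¹) (g * t * g⁻¹)) : Nn y t := by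
  intro x hx hxt hxy h9
  refine h (g * x * g⁻¹) ?_ (LThreeB.conj_comm' hxt) (LThreeB.conj_comm' hxy) ?_
  · rw [← hx]
    exact orderOf_injective (MulAut.conj g).toMonoidHom (MulAut.conj g).injective x
  · refine h9.trans (dvd_of_eq (Nat.card_congr ?_))
    refine
      { toFun := fun c => ⟨g * c * g⁻¹, ?_⟩
        invFun := fun c => ⟨g⁻¹ * c * g, ?_⟩
        left_inv := fun c => Subtype.ext (by show g⁻¹ * (g * (c : G) * g⁻¹) * g = c; group)
        right_inv := fun c => Subtype.ext (by show g * (g⁻¹ * (c : G) * g) * g⁻¹ = c; group) }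
    · have h1 := Subgroup.mem_inf.1 c.2
      have h2 := Subgroup.mem_inf.1 h1.1
      exact Subgroup.mem_inf.2 ⟨Subgroup.mem_inf.2
        ⟨mem_centralizer_singleton_iff.2 (LThreeB.conj_comm' (mem_centralizer_singleton_iff.1 h2.1)),
        mem_centralizer_singleton_iff.2 (LThreeB.conj_comm' (mem_centralizer_singleton_iff.1 h2.2))⟩,
        mem_centralizer_singleton_iff.2 (LThreeB.conj_comm' (mem_centralizer_singleton_iff.1 h1.2))⟩
    · have h1 := Subgroup.mem_inf.1 c.2
      have h2 := Subgroup.mem_inf.1 h1.1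
      have key : ∀ {a : G}, (c : G) * (g * a * g⁻¹) = (g * a * g⁻¹) * c → (g⁻¹ * c * g) * a = a * (g⁻¹ * c * g) := by
        intro a ha
        calc (g⁻¹ * c * g) * a = g⁻¹ * (c * (g * a * g⁻¹)) * g := by group
          _ = g⁻¹ * ((g * a * g⁻¹) * c) * g := by rw [ha]
          _ = a * (g⁻¹ * c * g) := by group
      exact Subgroup.mem_inf.2 ⟨Subgroup.mem_inf.2
        ⟨mem_centralizer_singleton_iff.2 (key (mem_centralizer_singleton_iff.1 h2.1)),
        mem_centralizer_singleton_iff.2 (key (mem_centralizer_singleton_iff.1 h2.2))⟩,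
        mem_centralizer_singleton_iff.2 (key (mem_centralizer_singleton_iff.1 h1.2))⟩

section

variable {G : Type u} {V P W : Type*} [Group G] [AddCommGroup V] [Module ℚ V]
  [DistribMulAction G V] [SMulCommClass G ℚ V] [Group P] [AddCommGroup W] [Module ℚ W]
  {M : KS G V P W} {θ : leechLattice → P}

/-- **All fixed ranks**, `y` in `C(z)`. -/
theorem nn_of_cent [Finite G] [IsSimpleGroup G] (hG : ¬ 13 ^ 4 ∣ Nat.card G) (L : Lift M θ) (hc : KChart.Cent M)
    (I : CoOne) (ht : TrNe M.z (KChart.pi hc)) (hp : HasPair M.z (KChart.pi hc)) {y : centralizer ({M.z} : Set G)}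
    (hy : orderOf y = 3) {t : G} (hto : orderOf t = 2) (htz : ∀ g : G, g * t * g⁻¹ ≠ M.z)
    (hty : t * (y : G) = y * t) : Nn (y : G) t := by
  have h := KChart.chart L hc
  have hy' : orderOf (y : G) = 3 := by rw [Subgroup.orderOf_coe, hy]
  rcases I.ranks (KChart.pi hc y) (orderOf_pi h hy) with h1 | h1 | h1 | h1
  · intro x hx hxt hxy _
    exact zero hG L hc ht hy h1 (I.suz _ (orderOf_pi h hy) h1) hx hto htz hxt hxy hty
  · obtain ⟨x₀, u, g, hx₀, hfr₀, huz, hux, hne, hg⟩ := hp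
    obtain ⟨k, hk⟩ := conj_six h ht I.ranks I.six
      (fun x hx h2 => ⟨(good_of_inputs h I hx h2 : Good.{u} _).simple, (good_of_inputs h I hx h2 : Good.{u} _).nc⟩)
      hx₀ hfr₀ huz hux hne hg hy h1
    apply nn_conj (g := k)
    rw [hk]
    intro x hx hxt hxy _
    refine zero hG L hc ht hx₀ hfr₀ (I.suz _ (orderOf_pi h hx₀) hfr₀) hx (t := k * t * k⁻¹) ?_ ?_ hxt hxy ?_
    · rw [← hto]
      exact orderOf_injective (MulAut.conj k).toMonoidHom (MulAut.conj k).injective t
    · intro g' hg'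
      refine htz (g' * k) ?_
      rw [← hg']
      group
    · rw [← hk]
      exact LThreeB.conj_comm' hty
  · intro x hx hxt hxy
    obtain ⟨e⟩ := LThreeB.isoTh_of_inputs h I hy h1
    exact not_nine hy' (noThree_th.congr e.symm) hx hto hxt hxy hty
  · intro x hx hxt hxy
    obtain ⟨e⟩ := LThreeB.isoFi_of_inputs h I hy h1
    exact not_nine hy' ((noThree_fi h I).congr e.symm) hx hto hxt hxy hty

/-- **All fixed ranks**, `y` in a conjugate of `C(z)`. -/
theorem nn_of_comm [Finite G] [IsSimpleGroup G] (hG : ¬ 13 ^ 4 ∣ Nat.card G) (L : Lift M θ) (hc : KChart.Cent M)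
    (I : CoOne) (ht : TrNe M.z (KChart.pi hc)) (hp : HasPair M.z (KChart.pi hc)) {y t : G}
    (hy : orderOf y = 3) (hto : orderOf t = 2) (htz : ∀ g : G, g * t * g⁻¹ ≠ M.z)
    (hty : t * (y : G) = y * t) (hex : ∃ g : G, (g * M.z * g⁻¹) * y = y * (g * M.z * g⁻¹)) : Nn y t := by
  obtain ⟨g, hg⟩ := hex
  have h1 : (g⁻¹ * y * g⁻¹⁻¹) * M.z = M.z * (g⁻¹ * y * g⁻¹⁻¹) := by
    calc (g⁻¹ * y * g⁻¹⁻¹) * M.z = g⁻¹ * (y * (g * M.z * g⁻¹)) * g := by group
      _ = g⁻¹ * ((g * M.z * g⁻¹) * y) * g := by rw [hg]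
      _ = M.z * (g⁻¹ * y * g⁻¹⁻¹) := by group
  apply nn_conj (g := g⁻¹)
  refine nn_of_cent hG L hc I ht hp (y := ⟨g⁻¹ * y * g⁻¹⁻¹, mem_centralizer_singleton_iff.2 h1⟩) ?_ ?_ ?_ ?_
  · rw [← Subgroup.orderOf_coe, ← hy]
    exact orderOf_injective (MulAut.conj g⁻¹).toMonoidHom (MulAut.conj g⁻¹).injective y
  · rw [← hto]
    exact orderOf_injective (MulAut.conj g⁻¹).toMonoidHom (MulAut.conj g⁻¹).injective t
  · intro g' hg'
    refine htz (g' * g⁻¹) ?_
    rw [← hg']
    group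
  · exact LThreeB.conj_comm' hty

end

/-- a group of order divisible by 9 has a subgroup of order divisible by 9 centralizing an element of order 3 -/
theorem exists_three {R : Type u} [Group R] [Finite R] (h9 : 9 ∣ Nat.card R) :
    ∃ y : R, orderOf y = 3 ∧ 9 ∣ Nat.card ↥(centralizer ({y} : Set R)) := by
  have h3 : Fact (Nat.Prime 3) := ⟨Nat.prime_three⟩
  obtain ⟨S, hS⟩ := Sylow.exists_subgroup_card_pow_prime 3 (G := R) (n := 2) (by norm_num; exact h9)
  have hS' : Nat.card ↥S = 3 ^ 2 := hS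
  have hc : ∀ a b : ↥S, a * b = b * a := by
    have h1 := (IsPGroup.isMulCommutative_of_card_eq_prime_sq (p := 3) hS').is_comm.comm
    exact h1
  obtain ⟨y, hy⟩ := exists_prime_orderOf_dvd_card' (G := ↥S) 3 (by rw [hS']; norm_num)
  refine ⟨(y : R), by rw [Subgroup.orderOf_coe, hy], ?_⟩
  have h2 : S ≤ centralizer ({(y : R)} : Set R) := fun a ha =>
    mem_centralizer_singleton_iff.2 (congrArg Subtype.val (hc ⟨a, ha⟩ y))
  have h4 := Subgroup.card_dvd_of_le h2
  rw [hS'] at h4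
  exact h4

/-- **From `C(x) ∩ C(t) ∩ C(y)` to `C(x) ∩ C(t)`.** -/
theorem not_nine_of_nn {G : Type u} [Group G] [Finite G] {x t : G} (hx : orderOf x = 13) (hxt : x * t = t * x)
    (h : ∀ y : G, orderOf y = 3 → y * t = t * y → Nn y t) :
    ¬ 9 ∣ Nat.card ↥(centralizer ({x} : Set G) ⊓ centralizer ({t} : Set G)) := by
  intro h9
  obtain ⟨y, hy, hy9⟩ := exists_three h9
  have h1 := Subgroup.mem_inf.1 y.2
  have hyx : x * (y : G) = y * x := (mem_centralizer_singleton_iff.1 h1.1).symm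
  refine h (y : G) (by rw [Subgroup.orderOf_coe, hy]) (mem_centralizer_singleton_iff.1 h1.2) x hx hxt hyx ?_
  refine hy9.trans (dvd_of_eq (Nat.card_congr ?_))
  exact
    { toFun := fun c => ⟨((c : ↥(centralizer ({x} : Set G) ⊓ centralizer ({t} : Set G))) : G),
        Subgroup.mem_inf.2 ⟨c.1.2, mem_centralizer_singleton_iff.2
          (congrArg Subtype.val (mem_centralizer_singleton_iff.1 c.2))⟩⟩
      invFun := fun c => ⟨⟨c, (Subgroup.mem_inf.1 c.2).1⟩, mem_centralizer_singleton_iff.2 (Subtype.ext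
        (mem_centralizer_singleton_iff.1 (Subgroup.mem_inf.1 c.2).2))⟩
      left_inv := fun _ => rfl
      right_inv := fun _ => rfl }

end Cfsg.Agent.MThirteen

end

-- merged: Cfsg.Agent.MThirteen.Row
section

/-!
# `C_M(x) ∩ C_M(t)`, `x` of order 13 and `t` in the class 2A of the Monster (helper75)

`not_nine` : `9` does not divide the order of `C_M(x) ∩ C_M(t)`.
-/

set_option autoImplicit false
set_option maxRecDepth 100000

namespace Cfsg.Agent.MThirteen.Row

open Cfsg Cfsg.Agent.MonsterX Cfsg.Agent.MonsterX.InstData Cfsg.Agent.MonsterX.MainPack Cfsg.Agent.MonsterU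
open Cfsg.Agent.MonsterP Cfsg.Agent.MonsterN Cfsg.Agent.LThree Cfsg.Agent.LThreeMB
open Cfsg.Agent.MonsterX.MainBasic Cfsg.Agent.MonsterX.MainSimple Cfsg.Agent.MonsterX.Model
open Subgroup (centralizer mem_centralizer_singleton_iff)

theorem card_M : Nat.card ↥InstData.M.G = 808017424794512875886459904961710757005754368000000000 :=
  MainOrder.card_G LitFin.all.hG LitFin.all.hR LitFin.all.hL LitFin.all.hO

theorem not_dvd : ¬ 13 ^ 4 ∣ Nat.card ↥InstData.M.G := by
  rw [card_M]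
  norm_num

theorem finite : Finite ↥InstData.M.G := G_finite LitFin.all.hO

theorem simple : IsSimpleGroup ↥InstData.M.G :=
  isSimple LitFin.all.hG LitFin.all.hR LitFin.all.hL LitFin.all.hO LitFin.all.hT

theorem ta_order {t : ↥InstData.M.G} (h : LThreeB.Row.TA t) : orderOf t = 2 := by
  have : Fact (Nat.Prime 2) := ⟨Nat.prime_two⟩
  have h0 : IsConj (tG LitFin.all.hG LitFin.all.hR) t := h
  obtain ⟨c, hc⟩ := isConj_iff.1 h0
  have h1 : orderOf (tG LitFin.all.hG LitFin.all.hR) = 2 :=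
    orderOf_eq_prime (by rw [pow_two]; exact Subtype.ext LitFin.all.hR.t₀_sq)
      fun h => LitFin.all.hR.t₀_ne (congrArg Subtype.val h)
  rw [← h1, ← hc]
  exact orderOf_injective (MulAut.conj c).toMonoidHom (MulAut.conj c).injective _

theorem ta_ne {t : ↥InstData.M.G} (h : LThreeB.Row.TA t) (g : ↥InstData.M.G) : g * t * g⁻¹ ≠ KDone.K.z := by
  have h0 : IsConj (tG LitFin.all.hG LitFin.all.hR) t := h
  obtain ⟨c, hc⟩ := isConj_iff.1 h0
  have hz : KDone.K.z = zG LitFin.all.hG := Subtype.ext KDone.lnk.z_eq.symm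
  rw [hz]
  intro h1
  refine z_ne_conj LitFin.all.hG LitFin.all.hR LitFin.all.hL LitFin.all.hO LitFin.all.hT (g * c).2 ?_
  have h2 : (g * c) * tG LitFin.all.hG LitFin.all.hR * (g * c)⁻¹ = zG LitFin.all.hG := by
    rw [← h1, ← hc]
    group
  exact congrArg Subtype.val h2

/-- a group isomorphic to the Suzuki group: the trace condition -/
theorem trNe : TrNe KDone.K.z (KChart.pi LThreeB.Row.cent) :=
  KPair.trNe KDone.lft LThreeB.Row.cent (LThreeMBTr.traceNe KDone.lft LThreeMBTr.TensK.tens)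

theorem hasPair : HasPair KDone.K.z (KChart.pi LThreeB.Row.cent) :=
  KPair.hasPair KDone.lft LThreeB.Row.cent LThreeB.Row.second COct.octPair

/-- **No subgroup of order 9 in `C(x) ∩ C(t) ∩ C(y)`**, `t` in the class 2A, `x` of order 13, `y` of order 3. -/
theorem nn (I : CoOne) {y t : ↥InstData.M.G} (hy : orderOf y = 3) (ht : LThreeB.Row.TA t) (hty : t * y = y * t) :
    Nn y t := by
  have := finite
  have := simple
  obtain ⟨g, hg, -⟩ := LThreeM.FiRow.exists_z_in (x := y) (v := t) (by rw [← hy, pow_orderOf_eq_one]) ht hty.symm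
  exact nn_of_comm not_dvd KDone.lft LThreeB.Row.cent I trNe hasPair hy (ta_order ht) (ta_ne ht) hty ⟨g, hg⟩

/-- **`C_M(x) ∩ C_M(t)`**, `t` in the class 2A, `x` of order 13: the order is not divisible by 9. -/
theorem not_nine (I : CoOne) {x t : ↥InstData.M.G} (hx : orderOf x = 13) (ht : LThreeB.Row.TA t)
    (hxt : x * t = t * x) :
    ¬ 9 ∣ Nat.card ↥(centralizer ({x} : Set ↥InstData.M.G) ⊓ centralizer ({t} : Set ↥InstData.M.G)) := by
  have := finite
  exact not_nine_of_nn hx hxt fun y hy hyt => nn I hy ht hyt.symm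

/-- **An element of square `z` in `C(z)` commuting with an element of order 3 of fixed rank 0.** -/
theorem exists_sq_z (I : CoOne) {x : centralizer ({KDone.K.z} : Set ↥InstData.M.G)} (hx : orderOf x = 3)
    (hfr : fr (KChart.pi LThreeB.Row.cent x) = 1) :
    ∃ k : ↥InstData.M.G, k * k = KDone.K.z ∧ k * (x : ↥InstData.M.G) = x * k :=
  MThirteen.exists_sq_z KDone.lft LThreeB.Row.cent hx hfr
    (I.suz _ (orderOf_pi (KChart.chart KDone.lft LThreeB.Row.cent) hx) hfr)

end Cfsg.Agent.MThirteen.Row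

end

-- merged: Cfsg.Agent.MThirteen.ZeroN
section

/-!
# Elements of order `p` of a group with an isolated involution, general kernel (helper75)

`D` finite with an isolated involution `z`, `φ : C_D(z) → X` onto a simple group with central kernel of exponent
dividing `2 e`, `e` odd, and an element of square `z`.  `no_elem` : if `p` does not divide `|X|` and some prime `q`
dividing `|X|` divides no `p ^ i - 1`, `i ≤ m`, `p ^ (m + 1) ∤ |D|`, then `D` has no element of order `p`.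
-/

set_option autoImplicit false

namespace Cfsg.Agent.MThirteen

open Subgroup Cfsg Cfsg.Agent.LThree Cfsg.Agent.LThreeBX.Abs

universe u v

/-- a `q`-element normalising a `p`-group of small order centralises it -/
theorem acts_trivially_pow {D : Type*} [Group D] [Finite D] {p q m : ℕ} [Fact p.Prime] [hq : Fact q.Prime] (hqp : q ≠ p)
    (hdiv : ∀ i, 1 ≤ i → i ≤ m → ¬ q ∣ p ^ i - 1) {P : Subgroup D} (hP : IsPGroup p ↥P) (hPm : Nat.card ↥P ∣ p ^ m)
    {u : D} {f : ℕ} (hu : u ^ q ^ f = 1) (hn : ∀ g ∈ P, u * g * u⁻¹ ∈ P) : ∀ g ∈ P, u * g * u⁻¹ = g := by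
  classical
  have hpp : p.Prime := Fact.out
  -- the subgroup of the fixed points
  let C : Subgroup ↥P := (centralizer ({u} : Set D)).subgroupOf P
  -- the action of `zpowers u`
  have hn' : u ∈ normalizer (P : Set D) := by
    have hinj : Function.Injective (fun g : ↥P => (⟨u * g * u⁻¹, hn g g.2⟩ : ↥P)) := by
      intro a b hab
      have h1 : u * (a : D) * u⁻¹ = u * b * u⁻¹ := congrArg Subtype.val hab
      exact Subtype.ext (mul_left_cancel (mul_right_cancel h1))
    have hsur := Finite.surjective_of_injective hinj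
    rw [mem_normalizer_iff]
    intro g
    refine ⟨fun hg => hn g hg, fun hg => ?_⟩
    obtain ⟨a, ha⟩ := hsur ⟨_, hg⟩
    have h1 : u * (a : D) * u⁻¹ = u * g * u⁻¹ := congrArg Subtype.val ha
    rw [← mul_left_cancel (mul_right_cancel h1)]
    exact a.2
  let U : Subgroup ↥(normalizer (P : Set D)) := zpowers ⟨u, hn'⟩
  have hU : IsPGroup q ↥U := by
    intro g
    refine ⟨f, ?_⟩
    obtain ⟨i, hi⟩ := mem_zpowers_iff.1 g.2
    apply Subtype.ext
    rw [SubmonoidClass.coe_pow, ← hi, ← zpow_natCast, ← zpow_mul, mul_comm, zpow_mul, zpow_natCast]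
    have h1 : (⟨u, hn'⟩ : ↥(normalizer (P : Set D))) ^ q ^ f = 1 := Subtype.ext hu
    rw [h1, one_zpow]
    rfl
  let act : MulAction ↥U ↥P :=
    { smul := fun g x => ⟨((g : ↥(normalizer (P : Set D))) : D) * x * ((g : ↥(normalizer (P : Set D))) : D)⁻¹,
        (mem_normalizer_iff.1 (g : ↥(normalizer (P : Set D))).2 x).1 x.2⟩
      one_smul := fun x => Subtype.ext (by
        show ((1 : D)) * x * (1 : D)⁻¹ = x
        group)
      mul_smul := fun a b x => Subtype.ext (by
        show (((a : ↥(normalizer (P : Set D))) : D) * ((b : ↥(normalizer (P : Set D))) : D)) * x *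
          (((a : ↥(normalizer (P : Set D))) : D) * ((b : ↥(normalizer (P : Set D))) : D))⁻¹ =
          ((a : ↥(normalizer (P : Set D))) : D) * (((b : ↥(normalizer (P : Set D))) : D) * x *
            ((b : ↥(normalizer (P : Set D))) : D)⁻¹) * ((a : ↥(normalizer (P : Set D))) : D)⁻¹
        group) }
  have hcard := hU.card_modEq_card_fixedPoints ↥P
  have hfix : Nat.card ↥(MulAction.fixedPoints ↥U ↥P) = Nat.card ↥C := by
    refine Nat.card_congr (Equiv.subtypeEquivRight fun x => ?_)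
    rw [MulAction.mem_fixedPoints]
    show _ ↔ x ∈ C
    rw [mem_subgroupOf, mem_centralizer_singleton_iff]
    constructor
    · intro h
      have h1 : u * (x : D) * u⁻¹ = x := congrArg Subtype.val (h ⟨⟨u, hn'⟩, mem_zpowers _⟩)
      exact (mul_inv_eq_iff_eq_mul.1 h1).symm
    · rintro h ⟨g, hg⟩
      obtain ⟨i, hi⟩ := mem_zpowers_iff.1 hg
      subst hi
      apply Subtype.ext
      show (((⟨u, hn'⟩ : ↥(normalizer (P : Set D))) ^ i : ↥(normalizer (P : Set D))) : D) * x *
        (((⟨u, hn'⟩ : ↥(normalizer (P : Set D))) ^ i : ↥(normalizer (P : Set D))) : D)⁻¹ = x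
      rw [SubgroupClass.coe_zpow]
      have h2 : Commute (x : D) u := h
      exact mul_inv_eq_iff_eq_mul.2 (h2.zpow_right i).eq.symm
  obtain ⟨j, hj, hjc⟩ := (Nat.dvd_prime_pow hpp).1 hPm
  obtain ⟨i, hi, hic⟩ := (Nat.dvd_prime_pow hpp).1
    (show Nat.card ↥C ∣ p ^ j by rw [← hjc]; exact card_subgroup_dvd_card C)
  rw [hfix, hic, hjc] at hcard
  have hij : i = j := by
    by_contra hne
    have hlt : i < j := lt_of_le_of_ne hi hne
    have h1 : q ∣ p ^ j - p ^ i := (Nat.modEq_iff_dvd' (Nat.pow_le_pow_right hpp.pos hi)).1 hcard.symm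
    have h2 : p ^ j - p ^ i = p ^ i * (p ^ (j - i) - 1) := by
      rw [Nat.mul_sub, mul_one, ← pow_add, Nat.add_sub_cancel' hi]
    rw [h2] at h1
    rcases hq.out.dvd_mul.1 h1 with h3 | h3
    · exact hqp ((Nat.prime_dvd_prime_iff_eq hq.out hpp).1 (hq.out.dvd_of_dvd_pow h3))
    · exact hdiv (j - i) (by omega) (by omega) h3
  have htop : C = ⊤ := by
    apply Subgroup.eq_top_of_card_eq
    rw [hic, hjc, hij]
  intro g hg
  have h1 : (⟨g, hg⟩ : ↥P) ∈ C := by rw [htop]; trivial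
  exact mul_inv_eq_iff_eq_mul.2 (mem_centralizer_singleton_iff.1 (mem_subgroupOf.1 h1)).symm

/-- an element of order `q` of the image lifts to a `q`-element -/
theorem exists_q_lift {A : Type*} {X : Type*} [Group A] [Finite A] [Group X] (Φ : A →* X) (hΦ : Function.Surjective Φ)
    {q : ℕ} [Fact q.Prime] (hq : q ∣ Nat.card X) : ∃ (u : A) (f : ℕ), u ^ q ^ f = 1 ∧ Φ u ≠ 1 := by
  have hX : Finite X := Finite.of_surjective Φ hΦ
  obtain ⟨v, hv⟩ := exists_prime_orderOf_dvd_card' (G := X) q hq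
  obtain ⟨a, ha⟩ := hΦ v
  obtain ⟨f, n', hn', hn⟩ := Nat.exists_eq_pow_mul_and_not_dvd (orderOf_pos a).ne' q (Fact.out : q.Prime).ne_one
  refine ⟨a ^ n', f, ?_, ?_⟩
  · rw [← pow_mul, mul_comm, ← hn, pow_orderOf_eq_one]
  · intro h
    rw [map_pow, ha] at h
    exact hn' (by rw [← hv]; exact orderOf_dvd_of_pow_eq_one h)

section

variable {D : Type u} [Group D] [Finite D] {z : D} {X : Type v} [Group X]
  (φ : ↥(centralizer ({z} : Set D)) →* X)

/-- **`D` has no element of order `p`.** -/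
theorem no_elem {p q m e : ℕ} [Fact p.Prime] [Fact q.Prime] (he : Odd e) (hpe : Nat.Coprime p (2 * e))
    (hqp : q ≠ p)
    (hdiv : ∀ i, 1 ≤ i → i ≤ m → ¬ q ∣ p ^ i - 1) (hD : ¬ p ^ (m + 1) ∣ Nat.card D)
    (hz : orderOf z = 2) (hiso : ∀ d : D, (d * z * d⁻¹) * z = z * (d * z * d⁻¹) → d * z * d⁻¹ = z)
    (hS : IsSimpleGroup X) (hev : Even (Nat.card X)) (hqX : q ∣ Nat.card X) (hφ : Function.Surjective φ)
    (hcen : ∀ k ∈ φ.ker, ∀ g, g * k = k * g) (hpow : ∀ k ∈ φ.ker, k ^ (2 * e) = 1)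
    {k : ↥(centralizer ({z} : Set D))} (hk : k * k = zA) (hX : ¬ p ∣ Nat.card X) {x : D} (hx : orderOf x = p) :
    False := by
  classical
  have hpp : p.Prime := Fact.out
  have hqq : q.Prime := Fact.out
  have hz2 : z * z = 1 := by rw [← pow_two, ← hz, pow_orderOf_eq_one]
  have hz1 : z ≠ 1 := by rintro rfl; rw [orderOf_one] at hz; norm_num at hz
  have hxp : x ^ p = 1 := by rw [← hx, pow_orderOf_eq_one]
  have hXf : Finite X := Finite.of_surjective φ hφ
  obtain ⟨N, F, hN, hNo, hsup, hF, hFc, hFN, hFk⟩ := exists_ext φ hz hiso hS hev hφ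
  -- `F x = 1`
  have hFx : F x = 1 := by
    by_contra h
    apply hX
    have h1 : orderOf (F x) = p := orderOf_eq_prime (by rw [← map_pow, hxp, map_one]) h
    rw [← h1]
    exact orderOf_dvd_natCard _
  -- `x ∈ N`
  have hxN : x ∈ N := by
    obtain ⟨n, hn, c, hc, hxc⟩ := hFk x hFx
    have h1 : QuotientGroup.mk' N x = QuotientGroup.mk' N (c : D) := by
      rw [hxc, map_mul, show QuotientGroup.mk' N n = 1 from (QuotientGroup.eq_one_iff _).2 hn, one_mul]
    have h2 : QuotientGroup.mk' N x ^ (2 * e) = 1 := by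
      rw [h1, ← map_pow]
      have h3 : ((c : D)) ^ (2 * e) = 1 := congrArg Subtype.val (hpow c hc)
      rw [h3, map_one]
    have h3 : QuotientGroup.mk' N x ^ p = 1 := by rw [← map_pow, hxp, map_one]
    have h4 : orderOf (QuotientGroup.mk' N x) ∣ 1 := by
      rw [← hpe]
      exact Nat.dvd_gcd (orderOf_dvd_of_pow_eq_one h3) (orderOf_dvd_of_pow_eq_one h2)
    exact (QuotientGroup.eq_one_iff _).1 (orderOf_eq_one_iff.1 (Nat.dvd_one.1 h4))
  have hpN : p ∣ Nat.card ↥N := by
    rw [← hx, ← Subgroup.orderOf_mk x hxN]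
    exact orderOf_dvd_natCard _
  -- `[d, z] ∈ N`
  have hzN : ∀ d : D, (d * z * d⁻¹) * z ∈ N := by
    intro d
    have hg : d ∈ N ⊔ centralizer ({z} : Set D) := by rw [hsup]; trivial
    obtain ⟨n, hn, c, hc, rfl⟩ := mem_sup_of_normal_left.1 hg
    have h1 : c * z * c⁻¹ = z := mul_inv_eq_iff_eq_mul.2 (mem_centralizer_singleton_iff.1 hc)
    have h2 : (n * c) * z * (n * c)⁻¹ * z = n * (z * n⁻¹ * z) := by
      calc (n * c) * z * (n * c)⁻¹ * z = n * (c * z * c⁻¹) * n⁻¹ * z := by group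
        _ = n * (z * n⁻¹ * z) := by rw [h1]; group
    rw [h2]
    have h3 : z * n⁻¹ * z ∈ N := by
      have h4 := hN.conj_mem _ (inv_mem hn) z
      rwa [inv_eq_of_mul_eq_one_left hz2] at h4
    exact mul_mem hn h3
  -- odd orders in `N`
  have hodd : ∀ n ∈ N, Odd (orderOf n) := by
    intro n hn
    rw [← Subgroup.orderOf_mk n hn]
    exact hNo.of_dvd_nat (orderOf_dvd_natCard _)
  -- a Sylow subgroup of `N` normalised by `z`
  obtain ⟨P, hPN, hPp, hP1, hPz, hPF⟩ : ∃ P : Subgroup D, P ≤ N ∧ IsPGroup p ↥P ∧ P ≠ ⊥ ∧ z ∈ normalizer (P : Set D) ∧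
      ∀ d : D, ∃ n ∈ N, ∃ g ∈ normalizer (P : Set D), d = n * g := by
    let S : Sylow p ↥N := default
    let P0 : Subgroup D := (S : Subgroup ↥N).map N.subtype
    have hfr : ∀ d : D, ∃ n ∈ N, ∃ g ∈ normalizer (P0 : Set D), d = n * g := by
      intro d
      have h1 : d ∈ normalizer (P0 : Set D) ⊔ N := by
        have := Sylow.normalizer_sup_eq_top S
        rw [this]; trivial
      rw [sup_comm] at h1
      obtain ⟨n, hn, g, hg, e⟩ := mem_sup_of_normal_left.1 h1
      exact ⟨n, hn, g, hg, e.symm⟩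
    -- an involution of `N_D(P0)` in `z N`
    obtain ⟨n, hn, g, hg, e⟩ := hfr z
    -- `g = n⁻¹ z`
    have hgz : g * z ∈ N := by
      have h1 : g = n⁻¹ * z := by rw [e]; group
      rw [h1, mul_assoc, hz2, mul_one]
      exact inv_mem hn
    have hgg : g * g ∈ N := by
      have h1 : g = n⁻¹ * z := by rw [e]; group
      have h2 : g * g = n⁻¹ * (z * n⁻¹ * z⁻¹) := by
        rw [inv_eq_of_mul_eq_one_left hz2, h1]; group
      rw [h2]
      exact mul_mem (inv_mem hn) (hN.conj_mem _ (inv_mem hn) z)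
    obtain ⟨o, ho⟩ := hodd _ hgg
    -- `τ = g ^ |g²|`
    set τ := g ^ (2 * o + 1) with hτ
    have hττ : τ * τ = 1 := by
      rw [hτ, mul_self_pow, ← ho, pow_orderOf_eq_one]
    have hτP : τ ∈ normalizer (P0 : Set D) := pow_mem hg _
    have hτz : z * τ ∈ N := by
      have h1 : z * τ = (z * g) * (g * g) ^ o := by
        rw [hτ, pow_succ', mul_assoc z g, pow_mul, pow_two]
      rw [h1]
      refine mul_mem ?_ (pow_mem hgg _)
      have h2 := hN.conj_mem _ hgz z
      have h3 : z * (g * z) * z⁻¹ = z * g := by group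
      rwa [h3] at h2
    obtain ⟨s, hs, hsz⟩ := conj_of_odd hz2 hττ (hodd _ hτz)
    refine ⟨P0.map (MulAut.conj s).toMonoidHom, ?_, ?_, ?_, ?_, ?_⟩
    · rintro _ ⟨y, ⟨y', -, rfl⟩, rfl⟩
      exact hN.conj_mem _ y'.2 s
    · exact (S.2.map N.subtype).map _
    · intro h
      have h1 : P0 = ⊥ := (Subgroup.map_eq_bot_iff_of_injective _ (MulAut.conj s).injective).1 h
      have h2 : (S : Subgroup ↥N) = ⊥ := (Subgroup.map_eq_bot_iff_of_injective _ N.subtype_injective).1 h1
      have h3 : p ∣ Nat.card ↥(S : Subgroup ↥N) := Sylow.dvd_card_of_dvd_card S hpN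
      rw [h2, card_bot] at h3
      exact hpp.one_lt.ne' (Nat.dvd_one.1 h3)
    · have h1 := mem_normalizer_conj hτP s
      rwa [hsz] at h1
    · intro d
      obtain ⟨n, hn, g, hg, e⟩ := hfr (s⁻¹ * d * s)
      refine ⟨s * n * s⁻¹, hN.conj_mem _ hn s, s * g * s⁻¹, mem_normalizer_conj hg s, ?_⟩
      calc d = s * (s⁻¹ * d * s) * s⁻¹ := by group
        _ = _ := by rw [e]; group
  -- `z` inverts `P`
  have hcz : ∀ g ∈ P, ∀ f : ℕ, g ^ f = 1 → Nat.Coprime p f → g = 1 := by
    intro g hg f he hpf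
    obtain ⟨j, hj⟩ := hPp ⟨g, hg⟩
    have h1 : g ^ p ^ j = 1 := congrArg Subtype.val hj
    have h2 : orderOf g ∣ 1 := by
      rw [← Nat.Coprime.pow_left j hpf]
      exact Nat.dvd_gcd (orderOf_dvd_of_pow_eq_one h1) (orderOf_dvd_of_pow_eq_one he)
    exact orderOf_eq_one_iff.1 (Nat.dvd_one.1 h2)
  have hfp : ∀ g ∈ P, z * g * z⁻¹ = g → g = 1 := by
    intro g hg hgz
    have hc : g ∈ centralizer ({z} : Set D) :=
      mem_centralizer_singleton_iff.2 (mul_inv_eq_iff_eq_mul.1 hgz).symm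
    have h1 : φ ⟨g, hc⟩ = 1 := by
      rw [← hFc]
      exact hFN g (hPN hg)
    exact hcz g hg (2 * e) (congrArg Subtype.val (hpow _ h1)) hpe
  have hPcard : Nat.card ↥P ∣ p ^ m := by
    obtain ⟨j, hj⟩ := IsPGroup.iff_card.1 hPp
    rw [hj]
    apply Nat.pow_dvd_pow
    by_contra hlt
    apply hD
    exact (Nat.pow_dvd_pow p (by omega : m + 1 ≤ j)).trans (hj ▸ card_subgroup_dvd_card P)
  -- `C(z) ∩ N(P)` covers `X`
  have hcov : ∀ v : X, ∃ a : ↥(centralizer ({z} : Set D)), (a : D) ∈ normalizer (P : Set D) ∧ φ a = v := by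
    intro v
    obtain ⟨d0, rfl⟩ := hφ v
    obtain ⟨n, hn, g, hg, e⟩ := hPF d0
    have hFg : F g = φ d0 := by
      rw [← hFc, e, map_mul, hFN n hn, one_mul]
    have h1 : (g * z * g⁻¹) * z ∈ N := hzN g
    have h2 : z * (g * z * g⁻¹) ∈ N := by
      have h3 : z * (g * z * g⁻¹) = ((g * z * g⁻¹) * z)⁻¹ := by
        rw [mul_inv_rev, mul_inv_rev, mul_inv_rev, inv_inv, inv_eq_of_mul_eq_one_left hz2]
        group
      rw [h3]
      exact inv_mem h1
    have h4 : (g * z * g⁻¹) * (g * z * g⁻¹) = 1 := by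
      calc (g * z * g⁻¹) * (g * z * g⁻¹) = g * (z * z) * g⁻¹ := by group
        _ = 1 := by rw [hz2]; group
    obtain ⟨s, hs, hsz⟩ := conj_of_odd hz2 h4 (hodd _ h2)
    have hsN : s ∈ N := (zpowers_le.2 h2) hs
    have hsP : s ∈ normalizer (P : Set D) :=
      (zpowers_le.2 (mul_mem hPz (mul_mem (mul_mem hg hPz) (inv_mem hg)))) hs
    have h5 : (s * g) * z * (s * g)⁻¹ = z := by
      calc (s * g) * z * (s * g)⁻¹ = s * (g * z * g⁻¹) * s⁻¹ := by group
        _ = z := hsz
    have h5' : (s * g) ∈ centralizer ({z} : Set D) := mem_centralizer_singleton_iff.2 (mul_inv_eq_iff_eq_mul.1 h5)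
    refine ⟨⟨s * g, h5'⟩, mul_mem hsP hg, ?_⟩
    rw [← hFc]
    show F (s * g) = φ d0
    rw [map_mul, hFN s hsN, one_mul, hFg]
  let A1 : Subgroup ↥(centralizer ({z} : Set D)) := (normalizer (P : Set D)).subgroupOf (centralizer ({z} : Set D))
  let Φ : ↥A1 →* X := φ.comp A1.subtype
  have hΦ : Function.Surjective Φ := by
    intro v
    obtain ⟨a, ha, hav⟩ := hcov v
    exact ⟨⟨a, mem_subgroupOf.2 ha⟩, hav⟩
  have hconj : ∀ a : ↥A1, ∀ g : D, g ∈ P ↔ ((a : ↥(centralizer ({z} : Set D))) : D) * g *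
      ((a : ↥(centralizer ({z} : Set D))) : D)⁻¹ ∈ P :=
    fun a g => mem_normalizer_iff.1 (mem_subgroupOf.1 a.2) g
  -- a `q`-element
  obtain ⟨u, f, hu, hu1⟩ := exists_q_lift Φ hΦ hqX
  let K1 : Subgroup ↥A1 :=
    ((centralizer (P : Set D)).subgroupOf (centralizer ({z} : Set D))).subgroupOf A1
  have hK1 : ∀ a : ↥A1, a ∈ K1 ↔ ∀ g ∈ P, ((a : ↥(centralizer ({z} : Set D))) : D) * g *
      ((a : ↥(centralizer ({z} : Set D))) : D)⁻¹ = g := by
    intro a
    constructor
    · intro ha g hg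
      have h1 := mem_centralizer_iff.1 (mem_subgroupOf.1 (mem_subgroupOf.1 ha)) g hg
      exact mul_inv_eq_iff_eq_mul.2 h1.symm
    · intro ha
      refine mem_subgroupOf.2 (mem_subgroupOf.2 (mem_centralizer_iff.2 fun g hg => ?_))
      exact (mul_inv_eq_iff_eq_mul.1 (ha g hg)).symm
  have hK1n : K1.Normal := by
    refine ⟨fun a ha b => ?_⟩
    rw [hK1] at ha ⊢
    intro g hg
    have h1 : ((b : ↥(centralizer ({z} : Set D))) : D)⁻¹ * g * ((b : ↥(centralizer ({z} : Set D))) : D) ∈ P := by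
      have h2 := (hconj b⁻¹ g).1 hg
      have h3 : (((b⁻¹ : ↥A1) : ↥(centralizer ({z} : Set D))) : D) = ((b : ↥(centralizer ({z} : Set D))) : D)⁻¹ := rfl
      rwa [h3, inv_inv] at h2
    have h2 := ha _ h1
    show (((b : ↥(centralizer ({z} : Set D))) : D) * ((a : ↥(centralizer ({z} : Set D))) : D) *
      ((b : ↥(centralizer ({z} : Set D))) : D)⁻¹) * g * (((b : ↥(centralizer ({z} : Set D))) : D) *
      ((a : ↥(centralizer ({z} : Set D))) : D) * ((b : ↥(centralizer ({z} : Set D))) : D)⁻¹)⁻¹ = g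
    calc _ = ((b : ↥(centralizer ({z} : Set D))) : D) * (((a : ↥(centralizer ({z} : Set D))) : D) *
          (((b : ↥(centralizer ({z} : Set D))) : D)⁻¹ * g * ((b : ↥(centralizer ({z} : Set D))) : D)) *
          ((a : ↥(centralizer ({z} : Set D))) : D)⁻¹) * ((b : ↥(centralizer ({z} : Set D))) : D)⁻¹ := by group
      _ = g := by rw [h2]; group
  have huK : u ∈ K1 := by
    rw [hK1]
    have huq : (((u : ↥(centralizer ({z} : Set D))) : D)) ^ q ^ f = 1 :=
      congrArg (fun w : ↥A1 => ((w : ↥(centralizer ({z} : Set D))) : D)) hu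
    exact acts_trivially_pow hqp hdiv hPp hPcard huq (fun g hg => (hconj u g).1 hg)
  have hKtop : K1.map Φ = ⊤ := by
    have h1 : (K1.map Φ).Normal := hK1n.map Φ hΦ
    rcases h1.eq_bot_or_eq_top with h | h
    · exfalso
      apply hu1
      have h2 : Φ u ∈ K1.map Φ := mem_map_of_mem Φ huK
      rw [h] at h2
      exact mem_bot.1 h2
    · exact h
  -- an element of `K1` above `φ k`
  obtain ⟨κ, hκ, hκk⟩ : φ k ∈ K1.map Φ := by rw [hKtop]; trivial
  have hc : φ (k⁻¹ * (κ : ↥(centralizer ({z} : Set D)))) = 1 := by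
    have h1 : φ (κ : ↥(centralizer ({z} : Set D))) = φ k := hκk
    rw [map_mul, map_inv, h1, inv_mul_cancel]
  have hzA : (κ : ↥(centralizer ({z} : Set D))) ^ (2 * e) = zA := by
    set c := k⁻¹ * (κ : ↥(centralizer ({z} : Set D))) with hcdef
    have h1 : (κ : ↥(centralizer ({z} : Set D))) = k * c := by rw [hcdef]; group
    have h2 : Commute k c := hcen c hc k
    have h3 : (zA : ↥(centralizer ({z} : Set D))) ^ 2 = 1 := by rw [pow_two]; exact Subtype.ext hz2
    obtain ⟨j, hj⟩ := he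
    rw [h1, h2.mul_pow, hpow c hc, mul_one, pow_mul, pow_two k, hk, hj, pow_add, pow_mul, h3, one_pow, one_mul, pow_one]
  have hκ6 : κ ^ (2 * e) ∈ K1 := pow_mem hκ (2 * e)
  have hzc : ∀ g ∈ P, z * g * z⁻¹ = g := by
    intro g hg
    have h1 := (hK1 _).1 hκ6 g hg
    have h2 : (((κ ^ (2 * e) : ↥A1) : ↥(centralizer ({z} : Set D))) : D) = z := congrArg Subtype.val hzA
    rwa [h2] at h1
  apply hP1
  rw [eq_bot_iff]
  intro g hg
  exact mem_bot.2 (hfp g hg (hzc g hg))

end

end Cfsg.Agent.MThirteen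

end

-- merged: Cfsg.Agent.MThirteen.NZero
section

/-!
# Primes not dividing the order of `C(y)`, `y` of odd prime order `r` and fixed rank 0 (helper75)

`not_dvd_zero` : `y` of order `r` and fixed rank 0 in `C(z)`, `z` isolated in `C(y)`, `C_{Co1}(pi y)/⟨pi y⟩` simple of
order prime to `p`: `p` does not divide `|C(y)|`, under numeric conditions.
-/

set_option autoImplicit false

namespace Cfsg.Agent.MThirteen

open Cfsg Cfsg.Agent.MonsterU Cfsg.Agent.LThree
open Cfsg.Agent.LThreeMB (fr Zx XX mk zD toCC toCC_surj toCC_inj toXX exists_XX_equiv be)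
open Cfsg.Agent.MonsterU.Ch
open Cfsg.Agent.MonsterU.Lam2 (L2)
open Cfsg.Spor (Co1)
open Subgroup (centralizer zpowers mem_centralizer_singleton_iff)

universe u

variable {G : Type u} [Group G] {Q : Subgroup G} {z : G} {eta : G → L2}
  {pi : Subgroup.centralizer ({z} : Set G) →* Co1}

/-- **Fixed rank 0.** -/
theorem not_dvd_zero [Finite G] {r p q m : ℕ} [Fact p.Prime] [Fact q.Prime] (hr : r.Prime) (ho : Odd r) (hpr : p ≠ r)
    (hp2 : p ≠ 2) (hqp : q ≠ p) (hdiv : ∀ i, 1 ≤ i → i ≤ m → ¬ q ∣ p ^ i - 1) (hG : ¬ p ^ (m + 1) ∣ Nat.card G)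
    (h : Chart Q z eta pi) {y : Subgroup.centralizer ({z} : Set G)} (hy : orderOf y = r) (hfr : fr (pi y) = 1)
    (hiso : ∀ d : G, d * (y : G) = y * d → (d * z * d⁻¹) * z = z * (d * z * d⁻¹) → d * z * d⁻¹ = z)
    (hS : IsSimpleGroup (XX (pi y))) (hev : Even (Nat.card (XX (pi y)))) (hq : q ∣ Nat.card (XX (pi y)))
    (hp : ¬ p ∣ Nat.card (XX (pi y))) (hk : ∃ k : G, k * (y : G) = y * k ∧ k * k = z) :
    ¬ p ∣ Nat.card ↥(centralizer ({(y : G)} : Set G)) := by
  have hpp : p.Prime := Fact.out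
  intro hd
  obtain ⟨x, hx⟩ := exists_prime_orderOf_dvd_card' (G := ↥(centralizer ({(y : G)} : Set G))) p hd
  obtain ⟨k, hky, hkk⟩ := hk
  have hyr : y ^ r = 1 := by rw [← hy, pow_orderOf_eq_one]
  have hyG : (y : G) ^ r = 1 := congrArg Subtype.val hyr
  have hz2 : z * z = 1 := h.large.z_sq
  have hyz : Commute (y : G) z := mem_centralizer_singleton_iff.1 y.2
  have hkz : k * z = z * k := by rw [← hkk, mul_assoc]
  have hyi : ∀ i : ℤ, ((y : G) ^ i) ^ r = 1 := fun i => by
    rw [← zpow_natCast, ← zpow_mul, mul_comm, zpow_mul, zpow_natCast, hyG, one_zpow]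
  let kD : ↥(centralizer ({zD y} : Set ↥(centralizer ({(y : G)} : Set G)))) :=
    ⟨⟨k, mem_centralizer_singleton_iff.2 hky⟩, mem_centralizer_singleton_iff.2 (Subtype.ext hkz)⟩
  refine no_elem (z := zD y) (toXX pi y) (p := p) (q := q) (m := m) (e := r) ho ?_ hqp hdiv ?_ ?_ ?_ hS hev hq
    (Cfsg.Agent.MFive.toXX_surj h hr ho hyr) ?_ ?_ (k := kD) ?_ hp hx
  · exact Nat.Coprime.mul_right ((Nat.coprime_primes hpp Nat.prime_two).2 hp2) ((Nat.coprime_primes hpp hr).2 hpr)
  · intro h1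
    exact hG (h1.trans (Subgroup.card_subgroup_dvd_card _))
  · rw [← Subgroup.orderOf_coe]
    exact LargeExtra.Base.orderOf_z h.large
  · intro d hd
    exact Subtype.ext (hiso d (mem_centralizer_singleton_iff.1 d.2) (congrArg Subtype.val hd))
  · intro c hc g
    have hgy : Commute ((g : ↥(centralizer ({(y : G)} : Set G))) : G) (y : G) :=
      mem_centralizer_singleton_iff.1 g.1.2
    have hgz : Commute ((g : ↥(centralizer ({(y : G)} : Set G))) : G) z :=
      congrArg Subtype.val (mem_centralizer_singleton_iff.1 g.2)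
    apply Subtype.ext
    apply Subtype.ext
    show ((g : ↥(centralizer ({(y : G)} : Set G))) : G) * ((c : ↥(centralizer ({(y : G)} : Set G))) : G) =
      ((c : ↥(centralizer ({(y : G)} : Set G))) : G) * ((g : ↥(centralizer ({(y : G)} : Set G))) : G)
    obtain ⟨i, hi | hi⟩ := PreUniq.MonGen.ker_sub h ho hyr hfr c hc
    · rw [hi]; exact (hgy.zpow_right i).eq
    · rw [hi]; exact ((hgy.zpow_right i).mul_right hgz).eq
  · intro c hc
    apply Subtype.ext
    apply Subtype.ext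
    show ((c : ↥(centralizer ({(y : G)} : Set G))) : G) ^ (2 * r) = 1
    obtain ⟨i, hi | hi⟩ := PreUniq.MonGen.ker_sub h ho hyr hfr c hc
    · rw [hi, mul_comm, pow_mul, hyi, one_pow]
    · rw [hi, (hyz.zpow_left i).mul_pow, mul_comm 2 r, pow_mul, hyi, one_pow, one_mul, mul_comm r 2, pow_mul, pow_two,
        hz2, one_pow]
  · apply Subtype.ext
    apply Subtype.ext
    exact hkk

/-- **Conjugates of powers** -/
theorem not_dvd_conj [Finite G] {r p : ℕ} (hr : r.Prime) {y y₀ k : G} {i : ℕ} (hy : orderOf y = r)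
    (hy₀ : orderOf y₀ = r) (hk : k * y * k⁻¹ = y₀ ^ i) (h : ¬ p ∣ Nat.card ↥(centralizer ({y₀} : Set G))) :
    ¬ p ∣ Nat.card ↥(centralizer ({y} : Set G)) := by
  obtain ⟨e⟩ := Cfsg.Agent.MFive.exists_cent_equiv hr hy hy₀ hk
  rwa [← Nat.card_congr e.toEquiv]

/-- the order of `C(y)` from the order of `C(y)/⟨y⟩` -/
theorem not_dvd_XX [Finite G] {r p : ℕ} (hr : r.Prime) (hp : p.Prime) (hpr : p ≠ r) {y : G} (hy : orderOf y = r)
    (h : ¬ p ∣ Nat.card (XX y)) : ¬ p ∣ Nat.card ↥(centralizer ({y} : Set G)) := by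
  rw [Subgroup.card_eq_card_quotient_mul_card_subgroup (Zx y), hp.dvd_mul, not_or]
  refine ⟨h, ?_⟩
  have h1 : Nat.card ↥(Zx y) = r := by
    rw [Zx, Nat.card_zpowers, ← Subgroup.orderOf_coe]
    exact hy
  rw [h1]
  exact fun h2 => hpr ((Nat.prime_dvd_prime_iff_eq hp hr).1 h2)

end Cfsg.Agent.MThirteen

end

-- merged: Cfsg.Agent.MThirteen.FiveTr
section

/-!
# Elements of order 5 inverted by a `2A`-involution of a `2A`-pure four-group (helper75)

`t`, `d`, `t d` commuting `2A`-involutions of the Monster, `y` commuting with `t` and inverted by `d`: `y` has not order 5,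
as a product of two transpositions of the Baby Monster has order at most 4.
-/

set_option autoImplicit false
set_option linter.unusedSectionVars false

open Subgroup

namespace Cfsg.Agent.MThirteen.FiveTr

open Cfsg Cfsg.Lie Cfsg.Agent.Bimonster Cfsg.Agent.BabyU Cfsg.Agent.TwoESix.Cover
open Cfsg.Agent.MonsterX.KSide Cfsg.Agent.MonsterX.KLift Cfsg.Agent.MonsterX.KModel
open Cfsg.Agent.MonsterX.Model Cfsg.Agent.MonsterX.MainPack Cfsg.Agent.MonsterX.MainSimple
open Cfsg.Agent.MonsterX.MainBasic Cfsg.Agent.MonsterU.Assembly Cfsg.Agent.MonsterN Cfsg.Agent.MonsterN.Lit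
open Cfsg.Agent.MonsterN.LitInst Cfsg.Agent.MonsterU.Lam2 Cfsg.Agent.MonsterU.TwoCls Cfsg.Agent.BabyComp
open Cfsg.Agent.CpAutBFive

variable {V P W : Type} [AddCommGroup V] [Module ℚ V] [Group P] [AddCommGroup W] [Module ℚ W]
  {D : MData V} {M : KS ↥D.G V P W} {x₀ : P} {θ : leechLattice → P} {K₀ : Type} [Group K₀]

/-- **The product of two conjugates of `d` in `C(t)` has order at most 4 modulo `t`.** -/
theorem four (A : All D K₀) (H : Link D M x₀) (L : Lift M θ) {τ : D.G} {y' : P}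
    (T : Cfsg.Agent.MonsterU.InvTwo.TauHyp M θ ⊤ τ y') {y : ℕ → D.G} (hP : PRel y) (hne : y 0 ≠ y 1)
    (hy : ∃ g : D.G, g * tG A.hG A.hR * g⁻¹ = y 10) {d s : BB M x₀} (hdd : d * d = 1) (hd1 : d ≠ 1)
    (hdt : d ≠ tb M x₀) (hdz : ¬ IsConj M.z (d : D.G)) (htz : ¬ IsConj M.z ((tb M x₀ * d : BB M x₀) : D.G)) :
    ∃ n : ℕ, 0 < n ∧ n ≤ 4 ∧ ((s * d * s⁻¹ * d) ^ n = 1 ∨ (s * d * s⁻¹ * d) ^ n = tb M x₀) := by
  have hfin : Finite D.G := G_finite A.hO
  have hB : Cfsg.IsB Cfsg.Spor.BabyMonster := Cfsg.Agent.S1704.result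
  obtain ⟨⟨h1, h2, h3⟩, h43⟩ := ModelB.fieldsKS A H L hP hne hy hB H.x₀_mem
  obtain ⟨f₁, f₂, f₃, f₄, Fc, hcz, hcd, p, hp, hp2, hp2'⟩ := FusInst.exists_facts A H L T H.x₀_mem
  have hzm : M.z ∈ BB M x₀ := mem_centralizer_singleton_iff.2 (by
    show M.ι M.zc * M.ι x₀ = M.ι x₀ * M.ι M.zc
    rw [← map_mul, ← map_mul, M.zc_comm])
  have hE : Emb (BB M x₀).subtype M.z (tb M x₀) f₁ f₂ f₃ :=
    ⟨Subtype.val_injective, nineteen H A, ((BB M x₀).subtype.map_isConj (hcz hzm)).symm, hcd⟩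
  -- the group `²E₆(2)`
  let K := GaloisField 2 2
  let _i : Fintype K := Fintype.ofFinite K
  have hK : Fintype.card K = 4 := by
    rw [← Nat.card_eq_fintype_card]
    exact GaloisField.card 2 2 (by norm_num)
  have hF : Fintype.card K = 2 ^ 2 := by rw [hK]; norm_num
  have hsE := EInst.isSimple K hK
  obtain ⟨e0, r, he0, hgen, hr, -, hconj⟩ := TwoESix.GoodInst.exists_good K hK
  have hR : ∀ i, e0 i ∈ rootClass K := fun i => by
    obtain ⟨g, hg⟩ := hconj i
    exact ⟨g, r, hr, hg⟩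
  have hHB : Finite HB := Cfsg.Agent.BM.HBFinal.finite_HB
  have hcard := Cfsg.Agent.BM.HBFinal.hcard K hK
  obtain ⟨q, yB, hpre, π, hq, h10, DK, hc5, hq5⟩ :=
    NodesB.nodes he0 hgen hcard (Cfsg.Agent.BM.HBFinal.card_E K hK) hR h1 h2 h3 Fc hE
  obtain ⟨M₁, Bs, -⟩ := BaseU.exists_baseU hq5
  -- `d` is conjugate to `f₁`
  have hzc : ∀ u : BB M x₀, IsConj (tb M x₀ * (f₁ * f₂)) u → IsConj M.z (u : D.G) := fun u hu =>
    ((BB M x₀).subtype.map_isConj (hcz hzm)).symm.trans ((BB M x₀).subtype.map_isConj hu)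
  have hd : IsConj f₁ d := by
    rcases Fc.classes d hdd hd1 hdt with h | h | h | h
    · exact h
    · exfalso
      exact htz (hzc _ (FusionType.conj_mul_t Fc.cen h))
    · exact absurd (hzc _ h) hdz
    · exact absurd (hcd.trans ((BB M x₀).subtype.map_isConj h)) hdz
  have hqd : IsConj (q (yB 5)) (q d) := q.map_isConj (hc5.symm.trans hd)
  obtain ⟨g, hg⟩ := isConj_iff.1 hqd
  obtain ⟨n, h0, h4, hn⟩ := Bs.ord (g⁻¹ * q (s * d * s⁻¹) * g) (by
    refine IsConj.trans ?_ (isConj_iff.2 ⟨g⁻¹, by rw [inv_inv]⟩)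
    rw [map_mul, map_mul, map_inv]
    exact hqd.trans (isConj_iff.2 ⟨q s, rfl⟩))
  refine ⟨n, h0, h4, (hq.ker _).1 ?_⟩
  have e : q (s * d * s⁻¹ * d) = g * (g⁻¹ * q (s * d * s⁻¹) * g * q (yB 5)) * g⁻¹ := by
    rw [map_mul _ (s * d * s⁻¹), ← hg]
    group
  rw [map_pow, e, conj_pow, hn]
  group

/-- **No element of order 5 commuting with `t` is inverted by `d`.** -/
theorem not_five (A : All D K₀) (H : Link D M x₀) (L : Lift M θ) {τ : D.G} {y' : P}
    (T : Cfsg.Agent.MonsterU.InvTwo.TauHyp M θ ⊤ τ y') {y : ℕ → D.G} (hP : PRel y) (hne : y 0 ≠ y 1)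
    (hy : ∃ g : D.G, g * tG A.hG A.hR * g⁻¹ = y 10) {d r : D.G} (hd : orderOf d = 2)
    (hdt : d ≠ M.ι x₀) (hct : d * M.ι x₀ = M.ι x₀ * d) (hdz : ¬ IsConj M.z d) (htz : ¬ IsConj M.z (M.ι x₀ * d))
    (hrt : r * M.ι x₀ = M.ι x₀ * r) (hinv : d * r * d⁻¹ = r⁻¹) : orderOf r ≠ 5 := by
  intro h5
  have hdd : d * d = 1 := by rw [← pow_two, ← hd, pow_orderOf_eq_one]
  have hdi : d⁻¹ = d := inv_eq_of_mul_eq_one_left hdd
  have hr5 : r ^ 5 = 1 := by rw [← h5, pow_orderOf_eq_one]
  let d' : BB M x₀ := ⟨d, mem_centralizer_singleton_iff.2 hct⟩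
  let r' : BB M x₀ := ⟨r, mem_centralizer_singleton_iff.2 hrt⟩
  obtain ⟨n, h0, h4, hn⟩ := four A H L T hP hne hy (d := d') (s := r') (Subtype.ext hdd)
    (fun e => by
      have h1 : d = 1 := congrArg Subtype.val e
      rw [h1, orderOf_one] at hd
      norm_num at hd)
    (fun e => hdt (congrArg Subtype.val e)) hdz htz
  -- `r d r⁻¹ d = r²`
  have h1 : r' * d' * r'⁻¹ * d' = r' ^ 2 := by
    apply Subtype.ext
    show r * d * r⁻¹ * d = r ^ 2
    have h2 : d * r⁻¹ * d = r := by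
      rw [← hinv, hdi]
      calc d * (d * r * d) * d = (d * d) * r * (d * d) := by group
        _ = r := by rw [hdd, one_mul, mul_one]
    calc r * d * r⁻¹ * d = r * (d * r⁻¹ * d) := by group
      _ = r ^ 2 := by rw [h2, pow_two]
  rw [h1, ← pow_mul] at hn
  have h2 : (r' ^ (2 * n)) * (r' ^ (2 * n)) = 1 := by
    rcases hn with h | h
    · rw [h, one_mul]
    · rw [h]
      apply Subtype.ext
      show M.ι x₀ * M.ι x₀ = 1
      obtain ⟨k, hk⟩ := ModelB.exists_conj_t A.hG A.hR H L H.x₀_mem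
      have h3 : tG A.hG A.hR * tG A.hG A.hR = 1 := Subtype.ext A.hR.t₀_sq
      rw [← hk]
      calc k * tG A.hG A.hR * k⁻¹ * (k * tG A.hG A.hR * k⁻¹) = k * (tG A.hG A.hR * tG A.hG A.hR) * k⁻¹ := by group
        _ = 1 := by rw [h3]; group
  have h3 : r ^ (4 * n) = 1 := by
    have h4 := congrArg Subtype.val h2
    rw [← pow_add] at h4
    rw [show 4 * n = 2 * n + 2 * n by ring]
    exact h4
  have h6 : 5 ∣ 4 * n := by rw [← h5]; exact orderOf_dvd_of_pow_eq_one h3
  omega

end Cfsg.Agent.MThirteen.FiveTr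

end

-- merged: Cfsg.Agent.MThirteen.FiveRow
section

/-!
# Elements of order 13 and 5-subgroups of the Monster (helper75)

* `not_dvd_five` : `y` of order 5 commuting with a conjugate of `z`: `13` does not divide `|C(y)|`;
* `five_trivial` : `x` of order 13, `{1, t, d, t d}` a `2A`-pure four-group of `C(x)`, `R` a 5-subgroup of `C(x)`
  normalised by `t` and `d`: `R = 1`.
-/

set_option autoImplicit false
set_option maxRecDepth 100000

namespace Cfsg.Agent.MThirteen.FiveRow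

open Cfsg Cfsg.Agent.MonsterX Cfsg.Agent.MonsterX.InstData Cfsg.Agent.MonsterX.MainPack Cfsg.Agent.MonsterU
open Cfsg.Agent.MonsterP Cfsg.Agent.MonsterN Cfsg.Agent.LThree
open Cfsg.Agent.LThreeMB (fr XX Zx KChart.Cent KChart.pi KChart.chart)
open Cfsg.Agent.MonsterX.MainBasic Cfsg.Agent.MonsterX.MainSimple Cfsg.Agent.MonsterX.Model
open Cfsg.Spor (Co1)
open Subgroup (centralizer mem_centralizer_singleton_iff)

/-! ### Elements of order 5 -/

/-- Elements of order 5 and fixed rank 0 of `Co1` commute with an element of `Co0` of square `-1`. -/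
theorem neg_five : PreUniq.MonRow.Neg 5 := by
  obtain ⟨A, hA, hs⟩ := PreUniq.MonNegFive.exists_neg
  refine PreUniq.MonRow.neg_of hA hs fun s hso hfr => ?_
  rcases CoFive.Ranks.main_co1 hso with ⟨-, h⟩ | ⟨-, h⟩ | ⟨h, -⟩
  · rw [hfr] at h
    norm_num at h
  · rw [hfr] at h
    norm_num at h
  · obtain ⟨c, hc⟩ := isConj_iff.1 h
    refine ⟨c⁻¹, 1, ?_⟩
    have h1 : (QuotientGroup.mk (CoFive.Rel.e 2 * (CoFive.Rel.e 3 * CoFive.Rel.e 3)) : Co1) = c * s * c⁻¹ := hc.symm
    rw [pow_one, h1]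
    group

/-- **`y` of order 5 commuting with a conjugate of `z`.** -/
theorem not_dvd_five (I : MFive.CoFive) (hJ : ∀ s : Co1, orderOf s = 5 → fr s = 1 → Spor.IsoJ2 (XX s))
    {y : ↥InstData.M.G} (hy : orderOf y = 5)
    (hex : ∃ g : ↥InstData.M.G, (g * KDone.K.z * g⁻¹) * y = y * (g * KDone.K.z * g⁻¹)) :
    ¬ 13 ∣ Nat.card ↥(centralizer ({y} : Set ↥InstData.M.G)) := by
  have hfin : Finite ↥InstData.M.G := Row.finite
  have hsim : IsSimpleGroup ↥InstData.M.G := Row.simple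
  have : Fact (Nat.Prime 13) := ⟨by norm_num⟩
  have : Fact (Nat.Prime 5) := ⟨Nat.prime_five⟩
  have h := KChart.chart KDone.lft MFive.Row.hc
  rcases MFive.Row.cases_model I (MFiveHN.Closed.hnEight h) hy hex with ⟨⟨e⟩⟩ | ⟨y₀, k, i, hy₀, hfr, hk⟩
  · refine not_dvd_XX Nat.prime_five (by norm_num) (by norm_num) hy ?_
    rw [Nat.card_congr e.toEquiv, Cfsg.Agent.S1701.result.2]
    norm_num
  · refine not_dvd_conj Nat.prime_five hy (by rw [Subgroup.orderOf_coe, hy₀]) hk ?_
    have hy₀' : orderOf (KChart.pi MFive.Row.hc y₀) = 5 := MFive.orderOf_pi h Nat.prime_five (by decide) hy₀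
    obtain ⟨e⟩ := hJ _ hy₀' hfr
    have hc : Nat.card (XX (KChart.pi MFive.Row.hc y₀)) = 604800 :=
      (Nat.card_congr e.toEquiv).trans Cfsg.Agent.S1619.result.2.2.2
    refine not_dvd_zero (r := 5) (p := 13) (q := 5) (m := 3) Nat.prime_five (by decide) (by norm_num) (by norm_num)
      (by norm_num) ?_ Row.not_dvd h hy₀ hfr ?_ ((MulEquiv.isSimpleGroup_congr e).2 Cfsg.Agent.S1620.result.1) ?_ ?_ ?_ ?_
    · intro i hi1 hi3
      interval_cases i <;> norm_num
    · intro d hd hc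
      exact MFive.isolated h (MFive.KPair.trNe_five KDone.lft LThreeMBTr.tens MFive.Row.hc) hy₀ hfr d hd hc
    · rw [hc]; decide
    · rw [hc]; norm_num
    · rw [hc]; norm_num
    · exact PreUniq.MonRow.exists_kk Nat.prime_five (by decide) neg_five y₀ hy₀ hfr

/-! ### The main statement -/

/-- an element of order 5 inverted by `d` and commuting with `t` -/
theorem not_five {t d r : ↥InstData.M.G} (ht : LThreeB.Row.TA t) (hd : LThreeB.Row.TA d) (htd : LThreeB.Row.TA (t * d))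
    (hct : t * d = d * t) (hrt : r * t = t * r) (hinv : d * r * d⁻¹ = r⁻¹) : orderOf r ≠ 5 := by
  obtain ⟨k, hk⟩ := ModelB.exists_conj_t LitFin.all.hG LitFin.all.hR KDone.lnk KDone.lft KDone.lnk.x₀_mem
  have ht' : IsConj (tG LitFin.all.hG LitFin.all.hR) t := ht
  obtain ⟨c, hc⟩ := isConj_iff.1 ht'
  -- `g t g⁻¹ = ι x₀`
  obtain ⟨g, hg⟩ : ∃ g : ↥InstData.M.G, g * t * g⁻¹ = KDone.K.ι KLinkInst.x₀ := by
    refine ⟨k * c⁻¹, ?_⟩
    rw [← hk, ← hc]
    group
  have hcomm : ∀ {a b : ↥InstData.M.G}, a * b = b * a → (g * a * g⁻¹) * (g * b * g⁻¹) = (g * b * g⁻¹) * (g * a * g⁻¹) := by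
    intro a b hab
    calc g * a * g⁻¹ * (g * b * g⁻¹) = g * (a * b) * g⁻¹ := by group
      _ = g * (b * a) * g⁻¹ := by rw [hab]
      _ = _ := by group
  have hord : ∀ a : ↥InstData.M.G, orderOf (g * a * g⁻¹) = orderOf a := fun a => MulEquiv.orderOf_eq (MulAut.conj g) a
  have hnz : ∀ {a : ↥InstData.M.G}, LThreeB.Row.TA a → ¬ IsConj KDone.K.z (g * a * g⁻¹) := by
    intro a ha hz
    obtain ⟨u, hu⟩ := isConj_iff.1 hz
    refine Row.ta_ne ha (u⁻¹ * g) ?_
    calc u⁻¹ * g * a * (u⁻¹ * g)⁻¹ = u⁻¹ * (g * a * g⁻¹) * u := by group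
      _ = KDone.K.z := by rw [← hu]; group
  rw [← hord r]
  refine FiveTr.not_five LitFin.all KDone.lnk KDone.lft
    (TauInst.tauHyp (Final.cent InstanceFinal.mOrbit Instance.mTrans)) (NodesGrp.prel LitFin.H)
    (NodesNe.ne LitFin.H) LitFin.conj_ten (d := g * d * g⁻¹) (r := g * r * g⁻¹) ?_ ?_ ?_ (hnz hd) ?_ ?_ ?_
  · rw [hord, Row.ta_order hd]
  · intro e
    have h1 : d = t := by
      rw [← hg] at e
      exact mul_left_cancel (mul_right_cancel e)
    have h2 := Row.ta_order htd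
    have h3 := Row.ta_order ht
    have h4 : t * t = 1 := by rw [← pow_two, ← h3, pow_orderOf_eq_one]
    rw [h1, h4, orderOf_one] at h2
    norm_num at h2
  · rw [← hg]
    exact hcomm hct.symm
  · have e : KDone.K.ι KLinkInst.x₀ * (g * d * g⁻¹) = g * (t * d) * g⁻¹ := by
      rw [← hg]
      group
    rw [e]
    exact hnz htd
  · rw [← hg]
    exact hcomm hrt
  · calc g * d * g⁻¹ * (g * r * g⁻¹) * (g * d * g⁻¹)⁻¹ = g * (d * r * d⁻¹) * g⁻¹ := by group
      _ = (g * r * g⁻¹)⁻¹ := by rw [hinv]; group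

/-- an element commuting with the four-group `{1, t, d, t d}` and with an element of order 13 -/
theorem not_five_cent (I : MFive.CoFive) (hJ : ∀ s : Co1, orderOf s = 5 → fr s = 1 → Spor.IsoJ2 (XX s))
    {x t d y : ↥InstData.M.G} (hx : orderOf x = 13) (ht : LThreeB.Row.TA t) (hd : LThreeB.Row.TA d)
    (htd : LThreeB.Row.TA (t * d)) (hct : t * d = d * t) (hyx : y * x = x * y) (hyt : y * t = t * y)
    (hyd : y * d = d * y) : orderOf y ≠ 5 := by
  intro hy
  have hfin : Finite ↥InstData.M.G := Row.finite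
  have h4 : 4 ∣ Nat.card ↥(centralizer ({y} : Set ↥InstData.M.G)) := by
    let tc : ↥(centralizer ({y} : Set ↥InstData.M.G)) := ⟨t, mem_centralizer_singleton_iff.2 hyt.symm⟩
    let dc : ↥(centralizer ({y} : Set ↥InstData.M.G)) := ⟨d, mem_centralizer_singleton_iff.2 hyd.symm⟩
    have htt : t * t = 1 := by rw [← pow_two, ← Row.ta_order ht, pow_orderOf_eq_one]
    have hdd : d * d = 1 := by rw [← pow_two, ← Row.ta_order hd, pow_orderOf_eq_one]
    have ho : ∀ {a : ↥InstData.M.G}, LThreeB.Row.TA a → a ≠ 1 := by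
      intro a ha h1
      have := Row.ta_order ha
      rw [h1, orderOf_one] at this
      norm_num at this
    -- the four-group
    let S : Subgroup ↥(centralizer ({y} : Set ↥InstData.M.G)) :=
      { carrier := {1, tc, dc, tc * dc}
        one_mem' := Or.inl rfl
        mul_mem' := by
          have e1 : tc * tc = 1 := Subtype.ext htt
          have e2 : dc * dc = 1 := Subtype.ext hdd
          have e3 : dc * tc = tc * dc := Subtype.ext hct.symm
          have e4 : tc * (tc * dc) = dc := by rw [← mul_assoc, e1, one_mul]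
          have e5 : dc * (tc * dc) = tc := by rw [← mul_assoc, e3, mul_assoc, e2, mul_one]
          have e6 : tc * dc * tc = dc := by rw [mul_assoc, e3, ← mul_assoc, e1, one_mul]
          have e7 : tc * dc * dc = tc := by rw [mul_assoc, e2, mul_one]
          have e8 : tc * dc * (tc * dc) = 1 := by rw [← mul_assoc, e6, e2]
          rintro a b (rfl | rfl | rfl | rfl) (rfl | rfl | rfl | rfl) <;>
            simp only [mul_one, one_mul, e1, e2, e3, e4, e5, e6, e7, e8, Set.mem_insert_iff, Set.mem_singleton_iff,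
              true_or, or_true]
        inv_mem' := by
          have e1 : tc⁻¹ = tc := inv_eq_of_mul_eq_one_left (Subtype.ext htt)
          have e2 : dc⁻¹ = dc := inv_eq_of_mul_eq_one_left (Subtype.ext hdd)
          have e3 : dc * tc = tc * dc := Subtype.ext hct.symm
          rintro a (rfl | rfl | rfl | rfl)
          · exact Or.inl inv_one
          · rw [e1]; exact Or.inr (Or.inl rfl)
          · rw [e2]; exact Or.inr (Or.inr (Or.inl rfl))
          · rw [mul_inv_rev, e1, e2, e3]; exact Or.inr (Or.inr (Or.inr rfl)) }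
    have hS : Nat.card ↥S = 4 := by
      have h1 : (S : Set ↥(centralizer ({y} : Set ↥InstData.M.G))) = {1, tc, dc, tc * dc} := rfl
      have h2 : Nat.card ↥S = ({1, tc, dc, tc * dc} : Set ↥(centralizer ({y} : Set ↥InstData.M.G))).ncard := by
        rw [← h1, ← Nat.card_coe_set_eq]
        rfl
      have n1 : tc ≠ 1 := fun e => ho ht (congrArg Subtype.val e)
      have n2 : dc ≠ 1 := fun e => ho hd (congrArg Subtype.val e)
      have n3 : tc * dc ≠ 1 := fun e => ho htd (congrArg Subtype.val e)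
      have n4 : tc ≠ dc := by
        intro e
        apply n3
        rw [← e]
        exact Subtype.ext htt
      have n5 : tc ≠ tc * dc := fun e => n2 (by rw [left_eq_mul] at e; exact e)
      have n6 : dc ≠ tc * dc := fun e => n1 (by rw [right_eq_mul] at e; exact e)
      rw [h2, Set.ncard_insert_of_notMem, Set.ncard_insert_of_notMem, Set.ncard_insert_of_notMem, Set.ncard_singleton]
      · rintro h
        exact n6 h
      · rintro (h | h)
        · exact n4 h
        · exact n5 h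
      · rintro (h | h | h)
        · exact n1 h.symm
        · exact n2 h.symm
        · exact n3 h.symm
    rw [← hS]
    exact Subgroup.card_subgroup_dvd_card S
  have hex := (CpAutBFive.EvenRow.cases hy).resolve_right fun h => h h4
  refine not_dvd_five I hJ hy hex ?_
  rw [← hx, ← Subgroup.orderOf_mk x (mem_centralizer_singleton_iff.2 hyx.symm)]
  exact orderOf_dvd_natCard _

/-- **`C_R(t) = 1`.** -/
theorem cent_trivial (I : MFive.CoFive) (hJ : ∀ s : Co1, orderOf s = 5 → fr s = 1 → Spor.IsoJ2 (XX s))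
    {x t d : ↥InstData.M.G} (hx : orderOf x = 13) (ht : LThreeB.Row.TA t) (hd : LThreeB.Row.TA d)
    (htd : LThreeB.Row.TA (t * d)) (hct : t * d = d * t) {R : Subgroup ↥InstData.M.G} (hR : IsPGroup 5 ↥R)
    (hRx : R ≤ centralizer ({x} : Set ↥InstData.M.G)) (hRd : ∀ r ∈ R, d * r * d⁻¹ ∈ R) :
    ∀ r ∈ R, r * t = t * r → r = 1 := by
  have hfin : Finite ↥InstData.M.G := Row.finite
  have : Fact (Nat.Prime 5) := ⟨Nat.prime_five⟩
  have hdd : d * d = 1 := by rw [← pow_two, ← Row.ta_order hd, pow_orderOf_eq_one]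
  -- no element of order 5
  let C : Subgroup ↥InstData.M.G := R ⊓ centralizer ({t} : Set ↥InstData.M.G)
  have hCp : IsPGroup 5 ↥C := hR.to_le inf_le_left
  have hCd : ∀ r ∈ C, d * r * d⁻¹ ∈ C := by
    intro r hr
    obtain ⟨h1, h2⟩ := Subgroup.mem_inf.1 hr
    refine Subgroup.mem_inf.2 ⟨hRd r h1, ?_⟩
    rw [mem_centralizer_singleton_iff] at h2 ⊢
    calc d * r * d⁻¹ * t = d * r * (d⁻¹ * t * d) * d⁻¹ := by group
      _ = d * (r * t) * d⁻¹ := by
        have e : d⁻¹ * t * d = t := by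
          rw [mul_assoc, hct]
          group
        rw [e]
        group
      _ = d * (t * r) * d⁻¹ := by rw [h2]
      _ = t * (d * r * d⁻¹) := by rw [← mul_assoc, ← hct]; group
  -- `d` has no fixed point on `C`
  have hfp : ∀ r ∈ C, d * r * d⁻¹ = r → r = 1 := by
    intro r hr hrd
    by_contra hr1
    obtain ⟨h1, h2⟩ := Subgroup.mem_inf.1 hr
    obtain ⟨j, hj⟩ := hR ⟨r, h1⟩
    have h3 : r ^ 5 ^ j = 1 := congrArg Subtype.val hj
    obtain ⟨i, hi, hio⟩ := (Nat.dvd_prime_pow Nat.prime_five).1 (orderOf_dvd_of_pow_eq_one h3)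
    have hi0 : i ≠ 0 := by
      rintro rfl
      exact hr1 (orderOf_eq_one_iff.1 (by rw [hio, pow_zero]))
    obtain ⟨i', rfl⟩ := Nat.exists_eq_succ_of_ne_zero hi0
    have h5 : orderOf (r ^ 5 ^ i') = 5 := by
      rw [orderOf_pow_of_dvd (pow_ne_zero _ (by norm_num)) (by rw [hio]; exact pow_dvd_pow 5 (Nat.le_succ i')), hio,
        pow_succ, Nat.mul_div_cancel_left _ (pow_pos (by norm_num) _)]
    have hc : ∀ {a : ↥InstData.M.G}, r * a = a * r → r ^ 5 ^ i' * a = a * r ^ 5 ^ i' := fun {a} ha =>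
      ((show Commute r a from ha).pow_left _).eq
    exact not_five_cent I hJ hx ht hd htd hct (hc (mem_centralizer_singleton_iff.1 (hRx h1)))
      (hc (mem_centralizer_singleton_iff.1 h2)) (hc (mul_inv_eq_iff_eq_mul.1 hrd).symm) h5
  have hinv := inverts (P := C) hdd hCd hfp
  intro r hr hrt
  by_contra hr1
  have hrC : r ∈ C := Subgroup.mem_inf.2 ⟨hr, mem_centralizer_singleton_iff.2 hrt⟩
  obtain ⟨j, hj⟩ := hR ⟨r, hr⟩
  have h3 : r ^ 5 ^ j = 1 := congrArg Subtype.val hj
  obtain ⟨i, hi, hio⟩ := (Nat.dvd_prime_pow Nat.prime_five).1 (orderOf_dvd_of_pow_eq_one h3)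
  have hi0 : i ≠ 0 := by
    rintro rfl
    exact hr1 (orderOf_eq_one_iff.1 (by rw [hio, pow_zero]))
  obtain ⟨i', rfl⟩ := Nat.exists_eq_succ_of_ne_zero hi0
  have h5 : orderOf (r ^ 5 ^ i') = 5 := by
    rw [orderOf_pow_of_dvd (pow_ne_zero _ (by norm_num)) (by rw [hio]; exact pow_dvd_pow 5 (Nat.le_succ i')), hio,
      pow_succ, Nat.mul_div_cancel_left _ (pow_pos (by norm_num) _)]
  have hm := C.pow_mem hrC (5 ^ i')
  exact not_five ht hd htd hct (mem_centralizer_singleton_iff.1 (Subgroup.mem_inf.1 hm).2) (hinv _ hm) h5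

/-- **`R = 1`.** -/
theorem five_trivial (I : MFive.CoFive) (hJ : ∀ s : Co1, orderOf s = 5 → fr s = 1 → Spor.IsoJ2 (XX s))
    {x t d : ↥InstData.M.G} (hx : orderOf x = 13) (ht : LThreeB.Row.TA t) (hd : LThreeB.Row.TA d)
    (htd : LThreeB.Row.TA (t * d)) (hct : t * d = d * t) {R : Subgroup ↥InstData.M.G} (hR : IsPGroup 5 ↥R)
    (hRx : R ≤ centralizer ({x} : Set ↥InstData.M.G)) (hRt : ∀ r ∈ R, t * r * t⁻¹ ∈ R)
    (hRd : ∀ r ∈ R, d * r * d⁻¹ ∈ R) : R = ⊥ := by
  have hfin : Finite ↥InstData.M.G := Row.finite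
  have htt : t * t = 1 := by rw [← pow_two, ← Row.ta_order ht, pow_orderOf_eq_one]
  have hdd : d * d = 1 := by rw [← pow_two, ← Row.ta_order hd, pow_orderOf_eq_one]
  have h1 := cent_trivial I hJ hx ht hd htd hct hR hRx hRd
  have h2 := cent_trivial I hJ hx hd ht (by rw [← hct]; exact htd) hct.symm hR hRx hRt
  have h3 := cent_trivial I hJ (t := t * d) (d := d) hx htd hd
    (by rw [mul_assoc, hdd, mul_one]; exact ht) (by rw [mul_assoc, ← mul_assoc d t d, ← hct, mul_assoc]) hR hRx hRd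
  have i1 := inverts (P := R) htt hRt fun g hg hgt => h1 g hg (mul_inv_eq_iff_eq_mul.1 hgt).symm
  have i2 := inverts (P := R) hdd hRd fun g hg hgd => h2 g hg (mul_inv_eq_iff_eq_mul.1 hgd).symm
  rw [eq_bot_iff]
  intro r hr
  refine Subgroup.mem_bot.2 (h3 r hr ?_)
  have h4 : (t * d) * r * (t * d)⁻¹ = r := by
    calc (t * d) * r * (t * d)⁻¹ = t * (d * r * d⁻¹) * t⁻¹ := by group
      _ = t * r⁻¹ * t⁻¹ := by rw [i2 r hr]
      _ = r := by rw [i1 _ (R.inv_mem hr), inv_inv]
  exact (mul_inv_eq_iff_eq_mul.1 h4).symm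

end Cfsg.Agent.MThirteen.FiveRow

end
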