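import Cfsg.Agent.BpSpor.MBigTool
import Cfsg.Agent.MThirteen.FiveRow
import Cfsg.Agent.Lib.KleinOrder
import Cfsg.Agent.Lib.ElemAbGL
import Mathlib.GroupTheory.SpecificGroups.Cyclic
import Cfsg.Agent.OrdDiv.Main
import Cfsg.Agent.CpAut.Base
import Cfsg.Agent.BpSpor.Tools
import Cfsg.Agent.CpAutBFive.EvenRow

-- merged: Cfsg.Agent.MThirteen.Four
section

/-!
# `O_{p'}(H)` of odd order and four-groups (helper75)

* `exists_cover` : `C_H(t)` covers `C_{H/O}(t)`, `O` of odd order;
* `exists_four` : `H` with a central element of order `p`, a `p`-component and `|C_H(t)|` not divisible by `p²` for the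
  involutions `t`: two different commuting involutions;
* `exists_sylow` : a Sylow subgroup of `O_{p'}(H)` normalised by a given 2-subgroup and by a `p`-element not
  centralising it.
-/

set_option autoImplicit false
set_option linter.unusedSectionVars false

open scoped commutatorElement

namespace Cfsg.Agent.MThirteen.TwoA

open Subgroup Cfsg Cfsg.Agent.Lib Cfsg.Agent.SignalizersComponents Cfsg.Agent.BpTab Cfsg.Agent.BpSpor

universe u

variable {H : Type u} [Group H] [Finite H] {p : ℕ} [hp : Fact p.Prime]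

omit hp in
/-- `C_H(t)` covers `C_{H/O}(t)` -/
theorem exists_cover {O : Subgroup H} (hodd : Odd (Nat.card ↥O)) {t : H} (ht : t * t = 1) {h : H}
    (hh : h * t * h⁻¹ * t⁻¹ ∈ O) : ∃ o ∈ O, (o * h) * t = t * (o * h) := by
  have hti : t⁻¹ = t := inv_eq_of_mul_eq_one_left ht
  have h1 : t * (h * t * h⁻¹) ∈ O := by
    have h2 := inv_mem hh
    have e : (h * t * h⁻¹ * t⁻¹)⁻¹ = t * (h * t * h⁻¹) := by
      rw [mul_inv_rev, inv_inv, mul_inv_rev, mul_inv_rev, inv_inv, hti]
      group
    rwa [e] at h2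
  have h2 : Odd (orderOf (t * (h * t * h⁻¹))) := by
    rw [← Subgroup.orderOf_mk _ h1]
    exact hodd.of_dvd_nat (orderOf_dvd_natCard _)
  obtain ⟨s, hs, hst⟩ := conj_of_odd (z := t) (z' := h * t * h⁻¹) ht (by
    calc h * t * h⁻¹ * (h * t * h⁻¹) = h * (t * t) * h⁻¹ := by group
      _ = 1 := by rw [ht]; group) h2
  refine ⟨s, (zpowers_le.2 h1) hs, ?_⟩
  have h3 : (s * h) * t * (s * h)⁻¹ = t := by
    calc (s * h) * t * (s * h)⁻¹ = s * (h * t * h⁻¹) * s⁻¹ := by group
      _ = t := hst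
  exact mul_inv_eq_iff_eq_mul.1 h3

/-- an involution commuting with a component modulo the core -/
theorem sq_dvd_cent {x : H} (hx : orderOf x = p) (hxc : x ∈ center H) {L : Subgroup H} (hL : IsPComponent p L)
    (hodd : Odd (Nat.card ↥(pPrimeCore p H))) {t : H} (ht : t * t = 1)
    (hc : ∀ l ∈ L, l * t * l⁻¹ * t⁻¹ ∈ pPrimeCore p H) : p ^ 2 ∣ Nat.card ↥(centralizer ({t} : Set H)) := by
  have hOn := Cores.pPrimeCore_normal (G := H) p
  set O := pPrimeCore p H with hO
  set q := QuotientGroup.mk' O with hq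
  have hqO : ∀ x, q x = 1 ↔ x ∈ O := fun x => QuotientGroup.eq_one_iff x
  set R := (centralizer ({t} : Set H)).map q with hR
  have h1 : L.map q ≤ R := by
    rintro _ ⟨l, hl, rfl⟩
    obtain ⟨o, ho, hol⟩ := exists_cover hodd ht (hc l hl)
    refine ⟨o * l, mem_centralizer_singleton_iff.2 hol, ?_⟩
    rw [map_mul, (hqO o).2 ho, one_mul]
  have h2 : q x ∈ R := ⟨x, mem_centralizer_singleton_iff.2 (mem_center_iff.1 hxc t).symm, rfl⟩
  exact (MBig.sq_dvd hx hxc hL h1 h2).trans (card_map_dvd _ q)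

/-- **Two commuting involutions.** -/
theorem exists_four (FT : ∀ (K : Type u) [Group K] [Finite K], Odd (Nat.card K) → Group.IsSolvable K)
    {x : H} (hx : orderOf x = p) (hxc : x ∈ center H) {L : Subgroup H} (hL : IsPComponent p L)
    (hodd : Odd (Nat.card ↥(pPrimeCore p H)))
    (ha : ∀ t : H, orderOf t = 2 → ¬ p ^ 2 ∣ Nat.card ↥(centralizer ({t} : Set H))) :
    ∃ t d : H, orderOf t = 2 ∧ orderOf d = 2 ∧ t ≠ d ∧ t * d = d * t := by
  have : Fact (Nat.Prime 2) := ⟨Nat.prime_two⟩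
  have hOn := Cores.pPrimeCore_normal (G := H) p
  by_contra hno
  push Not at hno
  have hev : 2 ∣ Nat.card H := by
    by_contra h
    rw [← even_iff_two_dvd, Nat.not_even_iff_odd] at h
    exact not_isPComponent_of_solvable (FT H h) L hL
  obtain ⟨t, ht⟩ := exists_prime_orderOf_dvd_card' 2 hev
  have htt : t * t = 1 := by rw [← pow_two, ← ht, pow_orderOf_eq_one]
  have hiso : ∀ d : H, (d * t * d⁻¹) * t = t * (d * t * d⁻¹) → d * t * d⁻¹ = t := by
    intro d hd
    by_contra hne
    refine hno t (d * t * d⁻¹) ht ?_ (Ne.symm hne) hd.symm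
    rw [← ht]
    exact MulEquiv.orderOf_eq (MulAut.conj d) t
  obtain ⟨N, hN, hNo, hsup⟩ := LThreeMB.ZStar.exists_core ht hiso
  set O := pPrimeCore p H with hO
  set q := QuotientGroup.mk' O with hq
  have hqO : ∀ x, q x = 1 ↔ x ∈ O := fun x => QuotientGroup.eq_one_iff x
  have hcomp : IsComponent (L.map q) := hL.2.1
  have hNt : ∀ h : H, h * t * h⁻¹ * t⁻¹ ∈ N := by
    intro h
    have hg : h ∈ N ⊔ centralizer ({t} : Set H) := by rw [hsup]; trivial
    obtain ⟨n, hn, c, hc, rfl⟩ := mem_sup_of_normal_left.1 hg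
    have h1 : c * t * c⁻¹ = t := mul_inv_eq_iff_eq_mul.2 (mem_centralizer_singleton_iff.1 hc)
    have h2 : n * c * t * (n * c)⁻¹ * t⁻¹ = n * (t * n⁻¹ * t⁻¹) := by
      calc n * c * t * (n * c)⁻¹ * t⁻¹ = n * (c * t * c⁻¹) * n⁻¹ * t⁻¹ := by group
        _ = n * (t * n⁻¹ * t⁻¹) := by rw [h1]; group
    rw [h2]
    exact mul_mem hn (hN.conj_mem _ (inv_mem hn) t)
  have hNq : (N.map q).Normal := hN.map q (QuotientGroup.mk'_surjective _)
  have hNs : Group.IsSolvable ↥(N.map q) := FT _ (hNo.of_dvd_nat (card_map_dvd _ q))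
  have h : ⁅L.map q, N.map q⁆ = ⊥ := ComponentSolvable.commutator_component_solvable_eq_bot hcomp hNs
    (by rw [normalizer_eq_top_iff.2 hNq]; exact le_top)
  have hK : ⁅zpowers (q t), L.map q⁆ = ⊥ := by
    refine Components.commutator_eq_bot_of_commutator_commutator_eq_bot hcomp.2.1 ?_
    rw [eq_bot_iff, ← h, commutator_comm (L.map q) (N.map q)]
    refine commutator_mono ?_ le_rfl
    rw [commutator_le]
    rintro _ ⟨k, rfl⟩ _ ⟨l, -, rfl⟩
    have h1 : ⁅t ^ k, l⁆ ∈ N := by
      let π := QuotientGroup.mk' N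
      have h2 : π l * π t = π t * π l := by
        have h3 : π (l * t * l⁻¹ * t⁻¹) = 1 := (QuotientGroup.eq_one_iff _).2 (hNt l)
        rw [map_mul, map_mul, map_mul, map_inv, map_inv, mul_inv_eq_one, mul_inv_eq_iff_eq_mul] at h3
        exact h3
      rw [← QuotientGroup.ker_mk' N, MonoidHom.mem_ker, map_commutatorElement, commutatorElement_eq_one_iff_mul_comm,
        map_zpow]
      exact ((show Commute (π l) (π t) from h2).zpow_right k).symm.eq
    have h2 := mem_map_of_mem q h1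
    rw [map_commutatorElement, map_zpow] at h2
    exact h2
  refine ha t ht (sq_dvd_cent hx hxc hL hodd htt ?_)
  intro l hl
  rw [← hqO, map_mul, map_mul, map_mul, map_inv, map_inv]
  have h3 : ⁅q t, q l⁆ ∈ ⁅zpowers (q t), L.map q⁆ :=
    commutator_mem_commutator (mem_zpowers _) (mem_map_of_mem q hl)
  rw [hK, mem_bot, commutatorElement_eq_one_iff_mul_comm] at h3
  rw [← h3, mul_assoc (q t), mul_inv_cancel, mul_one, mul_inv_cancel]

/-- a Sylow subgroup of `D` not centralised by `y` -/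
theorem exists_sylow_aux {y : H} {n : ℕ} (hy : y ^ p ^ n = 1) {D : Subgroup H} (hD : y ∈ normalizer (D : Set H))
    (hc : (Nat.card ↥D).Coprime p) (hne : ¬ D ≤ centralizer ({y} : Set H)) :
    ∃ (q : ℕ) (_ : Fact q.Prime) (P : Sylow q ↥D), q ≠ p ∧ y ∈ normalizer ((P : Subgroup ↥D).map D.subtype : Set H) ∧
      ¬ (P : Subgroup ↥D).map D.subtype ≤ centralizer ({y} : Set H) := by
  by_contra hcon
  push Not at hcon
  apply hne
  have hA : zpowers y ≤ normalizer (D : Set H) := zpowers_le.2 hD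
  have hcard : (Nat.card ↥(zpowers y)).Coprime (Nat.card ↥D) := by
    obtain ⟨k, hk⟩ := (IsPGroup.iff_card (p := p)).1 (Arith.isPGroup_zpowers hy)
    rw [hk]
    exact Nat.Coprime.pow_left k hc.symm
  have hsol : Group.IsSolvable ↥(zpowers y) := by
    refine Group.isSolvable_of_comm ?_
    rintro ⟨_, i, rfl⟩ ⟨_, j, rfl⟩
    exact Subtype.ext (by
      change y ^ i * y ^ j = y ^ j * y ^ i
      rw [← zpow_add, ← zpow_add, add_comm])
  have key : Nat.card ↥D ∣ Nat.card ↥(D ⊓ centralizer ({y} : Set H)) := by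
    rw [← Nat.factorization_prime_le_iff_dvd Nat.card_pos.ne' Nat.card_pos.ne']
    intro q hq
    have hqf : Fact q.Prime := ⟨hq⟩
    by_cases hqD : q ∣ Nat.card ↥D
    · have hqp : q ≠ p := by
        rintro rfl
        exact (Nat.Prime.coprime_iff_not_dvd hq).1 hc.symm hqD
      obtain ⟨P, hP⟩ := S0023.result (zpowers y) D hA hcard (Or.inl hsol) q
      have h1 := hcon q hqf P hqp (hP (mem_zpowers y))
      have h2 : Nat.card ↥((P : Subgroup ↥D).map D.subtype) ∣ Nat.card ↥(D ⊓ centralizer ({y} : Set H)) :=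
        card_dvd_of_le (le_inf (map_subtype_le _) h1)
      rw [card_map_of_injective D.subtype_injective, P.card_eq_multiplicity] at h2
      exact (hq.pow_dvd_iff_le_factorization Nat.card_pos.ne').1 h2
    · rw [Nat.factorization_eq_zero_of_not_dvd hqD]
      exact Nat.zero_le _
  have h1 : D ⊓ centralizer ({y} : Set H) = D :=
    eq_of_le_of_card_ge inf_le_left (Nat.le_of_dvd Nat.card_pos key)
  exact inf_eq_left.1 h1

/-- **A Sylow subgroup of the core**, normalised by a 2-group `V` and by a `p`-element `y` not centralising it. -/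
theorem exists_sylow {L : Subgroup H} (hL : IsPComponent p L) (hne : ⁅L, pPrimeCore p H⁆ ≠ ⊥)
    (hodd : Odd (Nat.card ↥(pPrimeCore p H))) {V : Subgroup H} (hV : IsPGroup 2 ↥V) :
    ∃ (q : ℕ) (_ : Fact q.Prime) (R : Subgroup H) (y : H), q ≠ p ∧ q ≠ 2 ∧ R ≤ pPrimeCore p H ∧ IsPGroup q ↥R ∧
      normalizer (R : Set H) ⊔ pPrimeCore p H = ⊤ ∧ V ≤ normalizer (R : Set H) ∧ (∃ n, y ^ p ^ n = 1) ∧
      y ∈ normalizer (R : Set H) ∧ ¬ R ≤ centralizer ({y} : Set H) := by
  have h2 : Fact (Nat.Prime 2) := ⟨Nat.prime_two⟩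
  have hOn := Cores.pPrimeCore_normal (G := H) p
  have hOc := Cores.pPrimeCore_coprime (G := H) p
  set O := pPrimeCore p H with hO
  -- a `p`-element
  obtain ⟨y, ⟨n, hy⟩, hyO⟩ : ∃ y : H, (∃ n, y ^ p ^ n = 1) ∧ ¬ O ≤ centralizer ({y} : Set H) := by
    by_contra hcon
    push Not at hcon
    apply hne
    rw [commutator_eq_bot_iff_le_centralizer]
    conv_lhs => rw [← PComponents.pElem_pcomp hL]
    refine (closure_le _).2 ?_
    rintro y ⟨-, hy⟩
    rw [SetLike.mem_coe, mem_centralizer_iff]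
    intro d hd
    exact mem_centralizer_singleton_iff.1 (hcon y hy hd)
  obtain ⟨q, hq, P, hqp, hyP, hPy⟩ := exists_sylow_aux hy (D := O) (by
    rw [normalizer_eq_top_iff.2 hOn]
    exact mem_top y) hOc hyO
  -- a `V`-invariant Sylow subgroup
  obtain ⟨P', hP'⟩ := S0023.result V O (by rw [normalizer_eq_top_iff.2 hOn]; exact le_top) (by
    obtain ⟨k, hk⟩ := (IsPGroup.iff_card (p := 2)).1 hV
    rw [hk]
    exact Nat.Coprime.pow_left k hodd.coprime_two_left) (Or.inl (by
      have := hV.isNilpotent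
      infer_instance)) q
  obtain ⟨o, rfl⟩ := MulAction.exists_smul_eq ↥O P P'
  have hR : ((o • P : Sylow q ↥O) : Subgroup ↥O).map O.subtype =
      ((P : Subgroup ↥O).map O.subtype).map (MulAut.conj (o : H)).toMonoidHom := by
    rw [Sylow.coe_subgroup_smul]
    ext h
    constructor
    · rintro ⟨_, ⟨a, ha, rfl⟩, rfl⟩
      exact ⟨a, ⟨a, ha, rfl⟩, rfl⟩
    · rintro ⟨_, ⟨a, ha, rfl⟩, rfl⟩
      exact ⟨_, ⟨a, ha, rfl⟩, rfl⟩
  refine ⟨q, hq, ((o • P : Sylow q ↥O) : Subgroup ↥O).map O.subtype, o * y * (o : H)⁻¹, hqp, ?_, map_subtype_le _,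
    (o • P).isPGroup'.map O.subtype, Sylow.normalizer_sup_eq_top _, hP', ⟨n, ?_⟩, ?_, ?_⟩
  · rintro rfl
    apply hPy
    have h3 : (P : Subgroup ↥O) = ⊥ := by
      have h4 := P.card_eq_multiplicity
      rw [Nat.factorization_eq_zero_of_not_dvd (by
        rw [← even_iff_two_dvd, Nat.not_even_iff_odd]
        exact hodd), pow_zero] at h4
      exact card_eq_one.1 h4
    rw [h3, Subgroup.map_bot]
    exact bot_le
  · rw [conj_pow, hy]
    group
  · rw [hR]
    exact mem_normalizer_conj hyP _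
  · rw [hR]
    intro hle
    apply hPy
    intro r hr
    have h3 := hle ⟨r, hr, rfl⟩
    rw [mem_centralizer_singleton_iff] at h3 ⊢
    have h4 : (o : H) * r * (o : H)⁻¹ * (o * y * (o : H)⁻¹) = o * y * (o : H)⁻¹ * (o * r * (o : H)⁻¹) := h3
    have h5 : (o : H) * (r * y) * (o : H)⁻¹ = o * (y * r) * (o : H)⁻¹ := by
      calc (o : H) * (r * y) * (o : H)⁻¹ = o * r * (o : H)⁻¹ * (o * y * (o : H)⁻¹) := by group
        _ = o * y * (o : H)⁻¹ * (o * r * (o : H)⁻¹) := h4
        _ = _ := by group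
    exact mul_left_cancel (mul_right_cancel h5)

end Cfsg.Agent.MThirteen.TwoA

end

-- merged: Cfsg.Agent.MThirteen.ThreeAut
section

/-!
# Automorphisms of the elementary abelian group of order 27 (helper75)

* `exists_aut` : `τ`, `δ` commuting involutory automorphisms without common fixed points, `|C(δ)| = |C(τδ)| = 3`:
  there is an automorphism of order 3 commuting with `τ`;
* `card_mulAut` : `|Aut R| = 11232`.
-/

set_option autoImplicit false

namespace Cfsg.Agent.MThirteen.TwoA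

/-- **An automorphism of order 3 commuting with `τ`.** -/
theorem exists_aut {R : Type*} [Group R] (hc : ∀ a b : R, a * b = b * a) (h3 : ∀ a : R, a ^ 3 = 1)
    {τ δ : MulAut R} (hτ : ∀ a, τ (τ a) = a) (hδ : ∀ a, δ (δ a) = a) (hτδ : ∀ a, τ (δ a) = δ (τ a))
    (hfix : ∀ a, τ a = a → δ a = a → a = 1) {D E : Subgroup R} (hD : ∀ a, a ∈ D ↔ δ a = a)
    (hE : ∀ a, a ∈ E ↔ τ (δ a) = a) (hDc : Nat.card ↥D = 3) (hEc : Nat.card ↥E = 3) :
    ∃ u : MulAut R, u ^ 3 = 1 ∧ u ≠ 1 ∧ u * τ = τ * u := by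
  have : Fact (Nat.Prime 3) := ⟨Nat.prime_three⟩
  -- `τ` and `δ` on `D` and `E`
  have hDτ : ∀ a ∈ D, τ a = a⁻¹ := by
    intro a ha
    have h1 := hfix (a * τ a) (by rw [map_mul, hτ, hc]) (by rw [map_mul, ← hτδ, (hD a).1 ha])
    exact (inv_eq_of_mul_eq_one_right h1).symm
  have hEδ : ∀ a ∈ E, δ a = τ a := by
    intro a ha
    have h1 := (hE a).1 ha
    rw [← hτ (δ a), h1]
  have hEτ : ∀ a ∈ E, τ a = a⁻¹ := by
    intro a ha
    have h1 := hfix (a * τ a) (by rw [map_mul, hτ, hc]) (by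
      rw [map_mul, ← hEδ a ha, hδ, hc])
    exact (inv_eq_of_mul_eq_one_right h1).symm
  let θ : ↥D ≃* ↥E := mulEquivOfPrimeCardEq (p := 3) hDc hEc
  -- the projection
  have hπ : ∀ a : R, a * δ a ∈ D := fun a => (hD _).2 (by rw [map_mul, hδ, hc])
  let π : R →* ↥D :=
    { toFun := fun a => ⟨a * δ a, hπ a⟩
      map_one' := Subtype.ext (by show (1 : R) * δ 1 = 1; rw [map_one, one_mul])
      map_mul' := fun a b => Subtype.ext (by
        show (a * b) * δ (a * b) = (a * δ a) * (b * δ b)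
        rw [map_mul, mul_assoc, ← mul_assoc b, hc b (δ a)]
        group) }
  let v : R →* R := E.subtype.comp (θ.toMonoidHom.comp π)
  have hvE : ∀ a, v a ∈ E := fun a => (θ (π a)).2
  have hπτ : ∀ a, π (τ a) = (π a)⁻¹ := by
    intro a
    apply Subtype.ext
    show τ a * δ (τ a) = (a * δ a)⁻¹
    rw [← hτδ, ← map_mul]
    exact hDτ _ (hπ a)
  have hvτ : ∀ a, v (τ a) = τ (v a) := by
    intro a
    rw [hEτ _ (hvE a)]
    show ((θ (π (τ a)) : ↥E) : R) = ((θ (π a) : ↥E) : R)⁻¹
    rw [hπτ, map_inv]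
    rfl
  have hπE : ∀ a ∈ E, π a = 1 := by
    intro a ha
    apply Subtype.ext
    show a * δ a = 1
    rw [hEδ a ha, hEτ a ha, mul_inv_cancel]
  have hvv : ∀ a, v (v a) = 1 := by
    intro a
    show ((θ (π (v a)) : ↥E) : R) = 1
    rw [hπE _ (hvE a), map_one]
    rfl
  let u : MulAut R :=
    { toFun := fun a => a * v a
      invFun := fun a => a * (v a)⁻¹
      left_inv := fun a => by
        show (a * v a) * (v (a * v a))⁻¹ = a
        rw [map_mul, hvv, mul_one, mul_inv_cancel_right]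
      right_inv := fun a => by
        show (a * (v a)⁻¹) * v (a * (v a)⁻¹) = a
        rw [map_mul, map_inv, hvv, inv_one, mul_one, inv_mul_cancel_right]
      map_mul' := fun a b => by
        show (a * b) * v (a * b) = (a * v a) * (b * v b)
        rw [map_mul, mul_assoc, ← mul_assoc b, hc b (v a)]
        group }
  have hu : ∀ a, u a = a * v a := fun a => rfl
  refine ⟨u, ?_, ?_, ?_⟩
  · ext a
    have e : (u ^ 3) a = u (u (u a)) := by
      rw [pow_succ, pow_two]
      rfl
    have h1 : ∀ b, v (b * v a) = v b := fun b => by rw [map_mul, hvv, mul_one]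
    rw [e, MulAut.one_apply, hu a, hu (a * v a), h1, hu (a * v a * v a), h1, h1, mul_assoc, mul_assoc, ← pow_two,
      ← pow_succ', h3, mul_one]
  · intro h
    have : Finite ↥D := Nat.finite_of_card_ne_zero (by rw [hDc]; norm_num)
    have hnt : Nontrivial ↥D := Finite.one_lt_card_iff_nontrivial.1 (by rw [hDc]; norm_num)
    obtain ⟨a, ha⟩ := exists_ne (1 : ↥D)
    apply ha
    have h1 : u (a : R) = a := by rw [h, MulAut.one_apply]
    rw [hu, mul_eq_left] at h1
    have h2 : θ (π a) = 1 := Subtype.ext h1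
    have h4 : π a = 1 := by
      apply θ.injective
      rw [h2, map_one]
    have h5 : (a : R) * δ a = 1 := congrArg Subtype.val h4
    rw [(hD _).1 a.2, ← pow_two] at h5
    apply Subtype.ext
    have h6 := h3 a
    rw [pow_succ, h5, one_mul] at h6
    exact h6
  · ext a
    show u (τ a) = τ (u a)
    rw [hu, hu, map_mul, hvτ]

/-- `|Aut R| = 11232` -/
theorem card_mulAut {R : Type*} [Group R] (hc : ∀ a b : R, a * b = b * a) (h3 : ∀ a : R, a ^ 3 = 1)
    (hR : Nat.card R = 27) : Nat.card (MulAut R) = 11232 := by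
  have : Fact (Nat.Prime 3) := ⟨Nat.prime_three⟩
  let _ : CommGroup R := { (inferInstance : Group R) with mul_comm := hc }
  obtain ⟨e⟩ := Cfsg.Agent.Lib.ElemAbGL.mulAut_equiv_GL (V := R) 3 3 h3 (by rw [hR]; norm_num)
  rw [Nat.card_congr e.toEquiv, Matrix.card_GL_field, ZMod.card]
  simp [Fin.prod_univ_succ]

end Cfsg.Agent.MThirteen.TwoA

end

-- merged: Cfsg.Agent.MThirteen.Three
section

/-!
# The 3-part of the core (helper75)

`three_core` : `H` with a 13-component, `R` a Sylow 3-subgroup of `O_{13'}(H)` (of odd order), `t`, `d` commuting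
involutions normalising `R`, `9` prime to the centralizers of the involutions: the 13-elements normalising `R`
centralise `R`.
-/

set_option autoImplicit false
set_option linter.unusedSectionVars false

namespace Cfsg.Agent.MThirteen.TwoA

open Subgroup Cfsg Cfsg.Agent.Lib Cfsg.Agent.SignalizersComponents Cfsg.Agent.BpTab Cfsg.Agent.BpSpor

universe u

/-- conjugation and normalizers in finite groups -/
theorem mem_normalizer_of_conj {H : Type*} [Group H] [Finite H] {S : Subgroup H} {y : H}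
    (h : ∀ s ∈ S, y * s * y⁻¹ ∈ S) : y ∈ normalizer (S : Set H) := by
  have hinj : Function.Injective (fun g : ↥S => (⟨y * g * y⁻¹, h g g.2⟩ : ↥S)) := by
    intro a b hab
    have h1 : y * (a : H) * y⁻¹ = y * b * y⁻¹ := congrArg Subtype.val hab
    exact Subtype.ext (mul_left_cancel (mul_right_cancel h1))
  have hsur := Finite.surjective_of_injective hinj
  rw [mem_normalizer_iff]
  intro g
  refine ⟨fun hg => h g hg, fun hg => ?_⟩
  obtain ⟨a, ha⟩ := hsur ⟨_, hg⟩
  have h1 : y * (a : H) * y⁻¹ = y * g * y⁻¹ := congrArg Subtype.val ha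
  rw [← mul_left_cancel (mul_right_cancel h1)]
  exact a.2

variable {H : Type u} [Group H] [Finite H]

section

variable {p : ℕ} [hp : Fact p.Prime]

/-- the simple quotient of a `p`-component and a homomorphism with kernel of odd order -/
theorem card_simple_dvd (FT : ∀ (K : Type u) [Group K] [Finite K], Odd (Nat.card K) → Group.IsSolvable K)
    {L : Subgroup H} (hL : IsPComponent p L) {A : Subgroup H} (hA : A ⊔ pPrimeCore p H = ⊤) {X : Type*} [Group X]
    [Finite X] (f : ↥A →* X) (hf : Odd (Nat.card ↥f.ker)) :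
    Nat.card (↥(L.map (QuotientGroup.mk' (pPrimeCore p H))) ⧸ center ↥(L.map (QuotientGroup.mk' (pPrimeCore p H)))) ∣
      Nat.card ↥f.range := by
  have hOn := Cores.pPrimeCore_normal (G := H) p
  set O := pPrimeCore p H with hO
  set q := QuotientGroup.mk' O with hq
  have hqs : IsQuasisimple ↥(L.map q) := hL.2.1.2
  let g : ↥A →* H ⧸ O := q.comp A.subtype
  have hg : Function.Surjective g := by
    intro y
    obtain ⟨h, rfl⟩ := QuotientGroup.mk'_surjective _ y
    have h1 : h ∈ A ⊔ O := hA ▸ mem_top h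
    rw [mem_sup_of_normal_right] at h1
    obtain ⟨n, hn, o, ho, rfl⟩ := h1
    refine ⟨⟨n, hn⟩, ?_⟩
    show q n = q (n * o)
    rw [map_mul, show q o = 1 from (QuotientGroup.eq_one_iff o).2 ho, mul_one]
  have hKn : (f.ker.map g).Normal := Subgroup.Normal.map inferInstance g hg
  have hK1 : Odd (Nat.card ↥((f.ker.map g).subgroupOf (L.map q))) := by
    have h1 : Nat.card ↥((f.ker.map g).subgroupOf (L.map q)) =
        Nat.card ↥(((f.ker.map g).subgroupOf (L.map q)).map (L.map q).subtype) :=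
      (card_map_of_injective (Subgroup.subtype_injective _)).symm
    rw [h1, subgroupOf_map_subtype]
    exact hf.of_dvd_nat ((card_dvd_of_le inf_le_left).trans (card_map_dvd _ _))
  have hle : (f.ker.map g).subgroupOf (L.map q) ≤ center ↥(L.map q) :=
    ComponentSolvable.quasisimple_solvable_normal_le_center hqs inferInstance (FT _ hK1)
  have h1 : (center ↥(L.map q)).index ∣ ((f.ker.map g).subgroupOf (L.map q)).index := index_dvd_of_le hle
  have h2 : ((f.ker.map g).subgroupOf (L.map q)).index ∣ (f.ker.map g).index :=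
    relIndex_dvd_index_of_normal (H := f.ker.map g) (K := L.map q)
  have h3 : (f.ker.map g).index ∣ f.ker.index := index_map_dvd _ hg
  rw [← index_ker f]
  exact h1.trans (h2.trans h3)

end

/-- **The order of the simple quotient.** -/
theorem card_eq (hS : CpAut.AllKnown.{u}) (T : OrdDiv.OrderTable.{u}) {K : Type u} [Group K] [Finite K]
    (hK : IsQuasisimple K) (hd : Nat.card (K ⧸ center K) ∣ 11232) (h13 : 13 ∣ Nat.card (K ⧸ center K)) :
    Nat.card (K ⧸ center K) = 5616 := by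
  have hs : IsSimpleGroup (K ⧸ center K) := hK.2
  have hna : ¬ ∀ a b : K ⧸ center K, a * b = b * a := by
    intro hc
    have h1 : Group.IsSolvable (K ⧸ center K) := Group.isSolvable_of_comm hc
    have : Group.IsPerfect K := hK.1
    have := hs.toNontrivial
    exact Group.IsPerfect.not_isSolvable _ h1
  obtain ⟨g, hg, -, hc⟩ := OrdDiv.exists_good T (hS (K ⧸ center K)) hna (l := [(2, 5), (3, 3), (13, 1)]) (N := 11232)
    (by decide +kernel) hd
  have key : ∀ g ∈ OrdDiv.cands [(2, 5), (3, 3), (13, 1)] 11232, 13 ∣ OrdDiv.ordN g → OrdDiv.ordN g = 5616 := by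
    decide +kernel
  rw [hc] at h13 ⊢
  exact key g hg h13

/-! ### The core -/

section

variable {R : Subgroup H}

/-- `|C_R(s)|` divides 3 -/
theorem inf_dvd (hR : IsPGroup 3 ↥R) {s : H} (h9 : ¬ 9 ∣ Nat.card ↥(centralizer ({s} : Set H))) :
    Nat.card ↥(R ⊓ centralizer ({s} : Set H)) ∣ 3 := by
  have : Fact (Nat.Prime 3) := ⟨Nat.prime_three⟩
  obtain ⟨k, hk⟩ := IsPGroup.iff_card.1 (hR.to_le (inf_le_left (b := centralizer ({s} : Set H))))
  rw [hk]
  have h1 : k ≤ 1 := by
    by_contra hcon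
    apply h9
    have h2 : 3 ^ 2 ∣ 3 ^ k := pow_dvd_pow 3 (by omega)
    rw [← hk] at h2
    exact h2.trans (card_dvd_of_le inf_le_right)
  exact (pow_dvd_pow 3 h1).trans (by norm_num)

/-- a subgroup of `R` of order `1` modulo 13 -/
theorem eq_of_modEq {y : H} (hy : ∃ n, y ^ 13 ^ n = 1) (hR27 : Nat.card ↥R = 27)
    (hRy : R ⊓ centralizer ({y} : Set H) = ⊥) {Z : Subgroup H} (hZR : Z ≤ R) (hZ1 : Z ≠ ⊥)
    (hZ : ∀ s ∈ Z, y * s * y⁻¹ ∈ Z) : Z = R := by
  obtain ⟨n, hn⟩ := hy
  have h1 := Arith.card_modEq (p := 13) (by norm_num) hn (mem_normalizer_of_conj hZ)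
  have h2 : Z ⊓ centralizer ({y} : Set H) = ⊥ := eq_bot_iff.2 ((inf_le_inf_right _ hZR).trans hRy.le)
  rw [h2, card_bot] at h1
  have h3 : Nat.card ↥Z ∣ 3 ^ 3 := by
    rw [show 3 ^ 3 = 27 by norm_num, ← hR27]
    exact card_dvd_of_le hZR
  obtain ⟨k, hk, hkc⟩ := (Nat.dvd_prime_pow Nat.prime_three).1 h3
  rw [hkc] at h1
  have hk3 : k = 3 := by
    interval_cases k
    · exfalso
      exact hZ1 (card_eq_one.1 hkc)
    · exact absurd h1 (by decide)
    · exact absurd h1 (by decide)
    · rfl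
  apply eq_of_le_of_card_ge hZR
  rw [hkc, hk3, hR27]
  norm_num

/-- **The 13-elements centralise `R`.** -/
theorem three_core (FT : ∀ (K : Type u) [Group K] [Finite K], Odd (Nat.card K) → Group.IsSolvable K)
    (hS : CpAut.AllKnown.{u}) (T : OrdDiv.OrderTable.{u}) [Fact (Nat.Prime 13)] {L : Subgroup H}
    (hL : IsPComponent 13 L) (hR : IsPGroup 3 ↥R) (hsup : normalizer (R : Set H) ⊔ pPrimeCore 13 H = ⊤)
    (h9 : ∀ s : H, orderOf s = 2 → ¬ 9 ∣ Nat.card ↥(centralizer ({s} : Set H))) {t d : H} (ht : orderOf t = 2)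
    (hd : orderOf d = 2) (hne : t ≠ d) (hc : t * d = d * t) (htR : t ∈ normalizer (R : Set H))
    (hdR : d ∈ normalizer (R : Set H)) {y : H} (hy : ∃ n, y ^ 13 ^ n = 1) (hyR : y ∈ normalizer (R : Set H)) :
    R ≤ centralizer ({y} : Set H) := by
  have hp3 : Fact (Nat.Prime 3) := ⟨Nat.prime_three⟩
  have hp2 : Fact (Nat.Prime 2) := ⟨Nat.prime_two⟩
  by_contra hcon
  have htt : t * t = 1 := by rw [← pow_two, ← ht, pow_orderOf_eq_one]
  have hdd : d * d = 1 := by rw [← pow_two, ← hd, pow_orderOf_eq_one]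
  have htd : orderOf (t * d) = 2 := by
    refine orderOf_eq_prime ?_ ?_
    · rw [pow_two]
      calc t * d * (t * d) = t * (d * t) * d := by group
        _ = t * (t * d) * d := by rw [hc]
        _ = (t * t) * (d * d) := by group
        _ = 1 := by rw [htt, hdd, one_mul]
    · intro h
      apply hne
      calc t = (t * d) * d⁻¹ := by group
        _ = d := by rw [h, one_mul]; exact inv_eq_of_mul_eq_one_left hdd
  have htc : ∀ r ∈ R, t * r * t⁻¹ ∈ R := fun r hr => (mem_normalizer_iff.1 htR r).1 hr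
  have hdc : ∀ r ∈ R, d * r * d⁻¹ ∈ R := fun r hr => (mem_normalizer_iff.1 hdR r).1 hr
  -- the orders
  have hodd : Odd (Nat.card ↥R) := by
    obtain ⟨k, hk⟩ := IsPGroup.iff_card.1 hR
    rw [hk]
    exact Odd.pow (by decide)
  have hkl := KleinOrder.card_klein R hodd htt hdd hc htc hdc
  have hat := inf_dvd hR (h9 t ht)
  have had := inf_dvd hR (h9 d hd)
  have hae := inf_dvd hR (h9 (t * d) htd)
  have hR27 : Nat.card ↥R ∣ 27 := by
    refine (Dvd.intro _ hkl).trans ?_
    exact (mul_dvd_mul (mul_dvd_mul hat had) hae).trans (by norm_num)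
  obtain ⟨n, hn⟩ := hy
  obtain ⟨m, hm1, hmd, hmc, hm13⟩ : ∃ m, 1 ≤ m ∧ 3 ^ m ∣ Nat.card ↥R ∧
      3 ^ m * Nat.card ↥(R ⊓ centralizer ({y} : Set H)) = Nat.card ↥R ∧ 13 ∣ 3 ^ m - 1 := by
    by_contra hno
    apply hcon
    refine Arith.cent_of_index (p := 13) (by norm_num) hn Nat.prime_three (by norm_num) hR hyR ?_
    intro m h1 h2 h3 h4
    exact hno ⟨m, h1, h2, h3, h4⟩
  have hm3 : m = 3 := by
    have h1 : 3 ^ m ∣ 3 ^ 3 := hmd.trans (by rw [show 3 ^ 3 = 27 by norm_num]; exact hR27)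
    have h2 : m ≤ 3 := (Nat.pow_dvd_pow_iff_le_right (x := 3) (by norm_num)).1 h1
    interval_cases m
    · exact absurd hm13 (by norm_num)
    · exact absurd hm13 (by norm_num)
    · rfl
  subst hm3
  have hRc : Nat.card ↥R = 27 := by
    apply Nat.dvd_antisymm hR27
    rw [show 27 = 3 ^ 3 by norm_num]
    exact hmd
  have hRy : R ⊓ centralizer ({y} : Set H) = ⊥ := by
    rw [hRc] at hmc
    apply card_eq_one.1
    omega
  -- `|C_R(t)| = |C_R(d)| = |C_R(t d)| = 3`, `C_R(t, d) = 1`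
  obtain ⟨hd3, he3, htd1⟩ : Nat.card ↥(R ⊓ centralizer ({d} : Set H)) = 3 ∧
      Nat.card ↥(R ⊓ centralizer ({t * d} : Set H)) = 3 ∧
      R ⊓ centralizer ({t} : Set H) ⊓ centralizer ({d} : Set H) = ⊥ := by
    rw [hRc] at hkl
    have hpos : 0 < Nat.card ↥(R ⊓ centralizer ({t} : Set H) ⊓ centralizer ({d} : Set H)) := Nat.card_pos
    rw [Nat.dvd_prime Nat.prime_three] at hat had hae
    have e1 : Nat.card ↥(R ⊓ centralizer ({t} : Set H) ⊓ centralizer ({d} : Set H)) = 1 := by
      by_contra h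
      have h2 : 2 ^ 2 ≤ Nat.card ↥(R ⊓ centralizer ({t} : Set H) ⊓ centralizer ({d} : Set H)) ^ 2 :=
        Nat.pow_le_pow_left (by omega) 2
      have h3 : 27 * 4 ≤ 27 := by
        calc 27 * 4 ≤ _ := Nat.mul_le_mul_left 27 h2
          _ = _ := hkl
          _ ≤ 3 * 3 * 3 := by
            apply Nat.mul_le_mul (Nat.mul_le_mul _ _) _ <;> omega
          _ = 27 := by norm_num
      omega
    rw [e1] at hkl
    refine ⟨?_, ?_, card_eq_one.1 e1⟩
    · rcases hat with h1 | h1 <;> rcases had with h2 | h2 <;> rcases hae with h3 | h3 <;> rw [h1, h2, h3] at hkl <;>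
        omega
    · rcases hat with h1 | h1 <;> rcases had with h2 | h2 <;> rcases hae with h3 | h3 <;> rw [h1, h2, h3] at hkl <;>
        omega
  -- `R` is elementary abelian
  have hcomm : ∀ a ∈ R, ∀ b ∈ R, a * b = b * a := by
    have h1 : R ⊓ centralizer (R : Set H) = R := by
      refine eq_of_modEq ⟨n, hn⟩ hRc hRy inf_le_left ?_ ?_
      · intro h
        have hnt : Nontrivial ↥R := Finite.one_lt_card_iff_nontrivial.1 (by rw [hRc]; norm_num)
        have h2 := hR.center_nontrivial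
        obtain ⟨c, hc1⟩ := exists_ne (1 : ↥(center ↥R))
        apply hc1
        have h3 : ((c : ↥R) : H) ∈ R ⊓ centralizer (R : Set H) := by
          refine mem_inf.2 ⟨(c : ↥R).2, mem_centralizer_iff.2 ?_⟩
          intro r hr
          exact congrArg Subtype.val (mem_center_iff.1 c.2 ⟨r, hr⟩)
        rw [h, mem_bot] at h3
        exact Subtype.ext (Subtype.ext h3)
      · intro s hs
        obtain ⟨h2, h3⟩ := mem_inf.1 hs
        rw [mem_centralizer_iff] at h3
        refine mem_inf.2 ⟨(mem_normalizer_iff.1 hyR s).1 h2, mem_centralizer_iff.2 ?_⟩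
        intro r hr
        have h4 : y⁻¹ * r * y ∈ R := by
          have h5 := (mem_normalizer_iff.1 (inv_mem hyR) r).1 hr
          rwa [inv_inv] at h5
        have h5 := h3 _ h4
        calc r * (y * s * y⁻¹) = y * ((y⁻¹ * r * y) * s) * y⁻¹ := by group
          _ = y * (s * (y⁻¹ * r * y)) * y⁻¹ := by rw [h5]
          _ = y * s * y⁻¹ * r := by group
    intro a ha b hb
    rw [← h1] at hb
    exact (mem_centralizer_iff.1 hb.2 a ha)
  have hexp : ∀ a ∈ R, a ^ 3 = 1 := by
    let Ω : Subgroup H :=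
      { carrier := {a | a ∈ R ∧ a ^ 3 = 1}
        one_mem' := ⟨one_mem _, one_pow 3⟩
        mul_mem' := by
          rintro a b ⟨ha, ha3⟩ ⟨hb, hb3⟩
          refine ⟨mul_mem ha hb, ?_⟩
          rw [(show Commute a b from hcomm a ha b hb).mul_pow, ha3, hb3, one_mul]
        inv_mem' := by
          rintro a ⟨ha, ha3⟩
          exact ⟨inv_mem ha, by rw [inv_pow, ha3, inv_one]⟩ }
    have h1 : Ω = R := by
      refine eq_of_modEq ⟨n, hn⟩ hRc hRy (fun a ha => ha.1) ?_ ?_
      · intro h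
        obtain ⟨c, hc1⟩ := exists_prime_orderOf_dvd_card' (G := ↥R) 3 (by rw [hRc]; norm_num)
        have h2 : (c : H) ∈ Ω := ⟨c.2, by
          have h3 := pow_orderOf_eq_one c
          rw [hc1] at h3
          exact congrArg Subtype.val h3⟩
        rw [h, mem_bot] at h2
        have h3 : c = 1 := Subtype.ext h2
        rw [h3, orderOf_one] at hc1
        norm_num at hc1
      · rintro s ⟨h2, h3⟩
        refine ⟨(mem_normalizer_iff.1 hyR s).1 h2, ?_⟩
        rw [conj_pow, h3]
        group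
    intro a ha
    rw [← h1] at ha
    exact ha.2
  -- the automorphism
  let f := R.normalizerMonoidHom
  have hf : ∀ (a : ↥(normalizer (R : Set H))) (r : ↥R), ((f a r : ↥R) : H) = a * r * (a : H)⁻¹ := fun a r => rfl
  let t' : ↥(normalizer (R : Set H)) := ⟨t, htR⟩
  let d' : ↥(normalizer (R : Set H)) := ⟨d, hdR⟩
  have hti : t⁻¹ = t := inv_eq_of_mul_eq_one_left htt
  have hdi : d⁻¹ = d := inv_eq_of_mul_eq_one_left hdd
  obtain ⟨u, hu3, hu1, hut⟩ := exists_aut (R := ↥R) (τ := f t') (δ := f d')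
    (fun a b => Subtype.ext (hcomm a a.2 b b.2)) (fun a => Subtype.ext (hexp a a.2))
    (fun a => Subtype.ext (by
      rw [hf, hf]
      show t * (t * a * t⁻¹) * t⁻¹ = a
      rw [hti]
      calc t * (t * a * t) * t = (t * t) * a * (t * t) := by group
        _ = a := by rw [htt]; group))
    (fun a => Subtype.ext (by
      rw [hf, hf]
      show d * (d * a * d⁻¹) * d⁻¹ = a
      rw [hdi]
      calc d * (d * a * d) * d = (d * d) * a * (d * d) := by group
        _ = a := by rw [hdd]; group))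
    (fun a => Subtype.ext (by
      rw [hf, hf, hf, hf]
      show t * (d * a * d⁻¹) * t⁻¹ = d * (t * a * t⁻¹) * d⁻¹
      calc t * (d * a * d⁻¹) * t⁻¹ = (t * d) * a * (t * d)⁻¹ := by group
        _ = (d * t) * a * (d * t)⁻¹ := by rw [hc]
        _ = _ := by group))
    (by
      intro a h1 h2
      have h3 : (a : H) ∈ R ⊓ centralizer ({t} : Set H) ⊓ centralizer ({d} : Set H) := by
        refine ⟨⟨a.2, ?_⟩, ?_⟩
        · exact mem_centralizer_singleton_iff.2 (mul_inv_eq_iff_eq_mul.1 (congrArg Subtype.val h1)).symm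
        · exact mem_centralizer_singleton_iff.2 (mul_inv_eq_iff_eq_mul.1 (congrArg Subtype.val h2)).symm
      rw [htd1, mem_bot] at h3
      exact Subtype.ext h3)
    (D := (R ⊓ centralizer ({d} : Set H)).subgroupOf R) (E := (R ⊓ centralizer ({t * d} : Set H)).subgroupOf R)
    (by
      intro a
      rw [mem_subgroupOf, mem_inf, mem_centralizer_singleton_iff]
      constructor
      · rintro ⟨-, h⟩
        exact Subtype.ext (mul_inv_eq_iff_eq_mul.2 h.symm)
      · intro h
        exact ⟨a.2, (mul_inv_eq_iff_eq_mul.1 (congrArg Subtype.val h)).symm⟩)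
    (by
      intro a
      have e : ((f t' (f d' a) : ↥R) : H) = (t * d) * a * (t * d)⁻¹ := by
        rw [hf, hf]
        show t * (d * a * d⁻¹) * t⁻¹ = _
        group
      rw [mem_subgroupOf, mem_inf, mem_centralizer_singleton_iff]
      constructor
      · rintro ⟨-, h⟩
        apply Subtype.ext
        rw [e]
        exact mul_inv_eq_iff_eq_mul.2 h.symm
      · intro h
        refine ⟨a.2, ?_⟩
        have h1 := congrArg Subtype.val h
        rw [e] at h1
        exact (mul_inv_eq_iff_eq_mul.1 h1).symm)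
    (by rw [Nat.card_congr (subgroupOfEquivOfLe inf_le_left).toEquiv, hd3])
    (by rw [Nat.card_congr (subgroupOfEquivOfLe inf_le_left).toEquiv, he3])
  -- the kernel has odd order
  have hker : ∀ a : ↥(normalizer (R : Set H)), a ∈ f.ker ↔ ∀ r ∈ R, (a : H) * r = r * a := by
    intro a
    rw [MonoidHom.mem_ker]
    constructor
    · intro h r hr
      have h1 : ((f a ⟨r, hr⟩ : ↥R) : H) = r := by rw [h]; rfl
      rw [hf] at h1
      exact mul_inv_eq_iff_eq_mul.1 h1
    · intro h
      ext r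
      rw [hf, MulAut.one_apply]
      exact mul_inv_eq_iff_eq_mul.2 (h r r.2)
  have hkodd : Odd (Nat.card ↥f.ker) := by
    by_contra h
    rw [Nat.not_odd_iff_even] at h
    obtain ⟨s, hs⟩ := exists_prime_orderOf_dvd_card' 2 (even_iff_two_dvd.1 h)
    have hs2 : orderOf (((s : ↥f.ker) : ↥(normalizer (R : Set H))) : H) = 2 := by
      rw [Subgroup.orderOf_coe, Subgroup.orderOf_coe, hs]
    apply h9 _ hs2
    have h1 : R ≤ centralizer ({(((s : ↥f.ker) : ↥(normalizer (R : Set H))) : H)} : Set H) := by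
      intro r hr
      exact mem_centralizer_singleton_iff.2 ((hker _).1 s.2 r hr).symm
    refine Dvd.dvd.trans ?_ (card_dvd_of_le h1)
    rw [hRc]
    norm_num
  -- the image
  have hcard := card_mulAut (R := ↥R) (fun a b => Subtype.ext (hcomm a a.2 b b.2))
    (fun a => Subtype.ext (hexp a a.2)) hRc
  have hdvd := card_simple_dvd FT hL hsup f hkodd
  have h5616 : 5616 ∣ Nat.card ↥f.range := by
    rw [← card_eq hS T (K := ↥(L.map (QuotientGroup.mk' (pPrimeCore 13 H)))) hL.2.1.2
      (by rw [← hcard]; exact hdvd.trans (card_subgroup_dvd_card _)) (MBig.dvd_card_simple hL)]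
    exact hdvd
  have hum : u ∈ f.range := by
    have hidx : f.range.index = 1 ∨ f.range.index = 2 := by
      obtain ⟨c, hc⟩ := h5616
      have h1 := f.range.card_mul_index
      rw [hcard, hc] at h1
      have h2 : c * f.range.index = 2 := by
        have h3 : 5616 * (c * f.range.index) = 5616 * 2 := by rw [← mul_assoc, h1]
        exact Nat.eq_of_mul_eq_mul_left (by norm_num) h3
      exact (Nat.dvd_prime Nat.prime_two).1 (Dvd.intro_left _ h2)
    rcases hidx with h | h
    · rw [index_eq_one] at h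
      rw [h]
      exact mem_top u
    · have h1 := mul_self_mem_of_index_two h (u * u)
      have h2 : u * u * (u * u) = u := by
        calc u * u * (u * u) = u ^ 3 * u := by rw [pow_succ, pow_two]; group
          _ = u := by rw [hu3, one_mul]
      rwa [h2] at h1
  obtain ⟨a, ha⟩ := hum
  obtain ⟨o, ho, hoa⟩ := exists_cover (H := ↥(normalizer (R : Set H))) (O := f.ker) hkodd (t := t')
    (Subtype.ext htt) (h := a) (by
      rw [MonoidHom.mem_ker, map_mul, map_mul, map_mul, map_inv, map_inv, ha, hut, mul_assoc (f t'), mul_inv_cancel,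
        mul_one, mul_inv_cancel])
  -- `9 ∣ |C(t)|`
  let C : Subgroup ↥(normalizer (R : Set H)) := centralizer {t'}
  let F : ↥C →* MulAut ↥R := f.comp C.subtype
  have hFu : u ∈ F.range := by
    refine ⟨⟨o * a, mem_centralizer_singleton_iff.2 hoa⟩, ?_⟩
    show f (o * a) = u
    rw [map_mul, MonoidHom.mem_ker.1 ho, one_mul, ha]
  have h3r : 3 ∣ Nat.card ↥F.range := by
    have h1 : orderOf u = 3 := orderOf_eq_prime hu3 hu1
    rw [← h1, ← Subgroup.orderOf_mk u hFu]
    exact orderOf_dvd_natCard _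
  have ht3 : Nat.card ↥(R ⊓ centralizer ({t} : Set H)) = 3 := by
    rw [hRc, htd1, card_bot, hd3, he3] at hkl
    omega
  have h3k : 3 ∣ Nat.card ↥F.ker := by
    obtain ⟨c, hc3⟩ := exists_prime_orderOf_dvd_card' (G := ↥(R ⊓ centralizer ({t} : Set H))) 3 (by rw [ht3])
    have hcR : (c : H) ∈ R := (mem_inf.1 c.2).1
    have hct : (c : H) * t = t * c := mem_centralizer_singleton_iff.1 (mem_inf.1 c.2).2
    let c1 : ↥(normalizer (R : Set H)) := ⟨c, le_normalizer hcR⟩
    let c2 : ↥C := ⟨c1, mem_centralizer_singleton_iff.2 (Subtype.ext hct)⟩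
    have h1 : c2 ∈ F.ker := by
      show f c1 = 1
      rw [← MonoidHom.mem_ker, hker]
      intro r hr
      exact hcomm _ hcR r hr
    have h2 : orderOf (⟨c2, h1⟩ : ↥F.ker) = 3 := by
      rw [Subgroup.orderOf_mk, ← Subgroup.orderOf_coe, ← Subgroup.orderOf_coe]
      show orderOf (c : H) = 3
      rw [Subgroup.orderOf_coe, hc3]
    rw [← h2]
    exact orderOf_dvd_natCard _
  have h99 : 9 ∣ Nat.card ↥C := by
    rw [← card_mul_index F.ker, index_ker, show 9 = 3 * 3 by norm_num]
    exact mul_dvd_mul h3k h3r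
  apply h9 t ht
  refine h99.trans ?_
  have h1 : Nat.card ↥C = Nat.card ↥(C.map (normalizer (R : Set H)).subtype) :=
    (card_map_of_injective (Subgroup.subtype_injective _)).symm
  rw [h1]
  apply card_dvd_of_le
  rintro _ ⟨c, hc', rfl⟩
  exact mem_centralizer_singleton_iff.2 (congrArg Subtype.val (mem_centralizer_singleton_iff.1 hc'))

end

end Cfsg.Agent.MThirteen.TwoA

end

-- merged: Cfsg.Agent.MThirteen.Core
section

/-!
# The `B_13`-property of a group with a central element of order 13: four-groups (helper75)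

`good_of_pure` : the criterion for `Good 13 H` from the centralizers of the involutions of `H`.
-/

set_option autoImplicit false

namespace Cfsg.Agent.MThirteen.TwoA

open Subgroup Cfsg Cfsg.Agent.Lib Cfsg.Agent.SignalizersComponents Cfsg.Agent.BpTab Cfsg.Agent.BpSpor

universe u

/-- the four-group generated by two commuting involutions -/
theorem exists_klein {H : Type*} [Group H] {t d : H} (ht : t * t = 1) (hd : d * d = 1) (hc : t * d = d * t) :
    ∃ V : Subgroup H, IsPGroup 2 ↥V ∧ t ∈ V ∧ d ∈ V := by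
  have e3 : d * t = t * d := hc.symm
  have e4 : t * (t * d) = d := by rw [← mul_assoc, ht, one_mul]
  have e5 : d * (t * d) = t := by rw [← mul_assoc, e3, mul_assoc, hd, mul_one]
  have e6 : t * d * t = d := by rw [mul_assoc, e3, ← mul_assoc, ht, one_mul]
  have e7 : t * d * d = t := by rw [mul_assoc, hd, mul_one]
  have e8 : t * d * (t * d) = 1 := by rw [← mul_assoc, e6, hd]
  let V : Subgroup H :=
    { carrier := {1, t, d, t * d}
      one_mem' := Or.inl rfl
      mul_mem' := by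
        rintro a b (rfl | rfl | rfl | rfl) (rfl | rfl | rfl | rfl) <;>
          simp only [mul_one, one_mul, ht, hd, e3, e4, e5, e6, e7, e8, Set.mem_insert_iff, Set.mem_singleton_iff,
            true_or, or_true]
      inv_mem' := by
        have e1 : t⁻¹ = t := inv_eq_of_mul_eq_one_left ht
        have e2 : d⁻¹ = d := inv_eq_of_mul_eq_one_left hd
        rintro a (rfl | rfl | rfl | rfl)
        · exact Or.inl inv_one
        · rw [e1]; exact Or.inr (Or.inl rfl)
        · rw [e2]; exact Or.inr (Or.inr (Or.inl rfl))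
        · rw [mul_inv_rev, e1, e2, e3]; exact Or.inr (Or.inr (Or.inr rfl)) }
  refine ⟨V, ?_, Or.inr (Or.inl rfl), Or.inr (Or.inr (Or.inl rfl))⟩
  rintro ⟨a, ha⟩
  refine ⟨1, Subtype.ext ?_⟩
  show a ^ 2 ^ 1 = 1
  rw [pow_one, pow_two]
  rcases ha with rfl | rfl | rfl | rfl
  · exact mul_one 1
  · exact ht
  · exact hd
  · exact e8

/-- **The criterion.** -/
theorem good_of_pure (FT : ∀ (K : Type u) [Group K] [Finite K], Odd (Nat.card K) → Group.IsSolvable K)
    (hS : CpAut.AllKnown.{u}) (T : OrdDiv.OrderTable.{u}) [hp13 : Fact (Nat.Prime 13)] {H : Type u} [Group H]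
    [Finite H] {x : H} (hx : orderOf x = 13) (hxc : x ∈ center H) {N : ℕ}
    (hN : ∀ t : H, orderOf t = 2 → Nat.card ↥(centralizer ({t} : Set H)) ∣ N) (hN13 : ¬ 13 ^ 2 ∣ N)
    (hNa : ∀ q m, q.Prime → q ≠ 2 → q ≠ 3 → q ≠ 5 → q ≠ 13 → 1 ≤ m → q ^ m ∣ N ^ 3 → ¬ 13 ∣ q ^ m - 1)
    (h2 : MBig.NoTwo 13 H) (h9 : ∀ s : H, orderOf s = 2 → ¬ 9 ∣ Nat.card ↥(centralizer ({s} : Set H)))
    (h5 : ∀ t d : H, orderOf t = 2 → orderOf d = 2 → t ≠ d → t * d = d * t → ∀ R : Subgroup H, IsPGroup 5 ↥R →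
      (∀ r ∈ R, t * r * t⁻¹ ∈ R) → (∀ r ∈ R, d * r * d⁻¹ ∈ R) → R = ⊥) : Good 13 H := by
  have ha : ∀ t : H, orderOf t = 2 → ¬ 13 ^ 2 ∣ Nat.card ↥(centralizer ({t} : Set H)) :=
    fun t ht hd => hN13 (hd.trans (hN t ht))
  rw [good_iff]
  intro L hL
  by_contra hne
  have hodd := MBig.odd_core (by norm_num) hx hxc hL ha h2
  obtain ⟨t, d, ht, hd, htd, hc⟩ := exists_four FT hx hxc hL hodd ha
  have htt : t * t = 1 := by rw [← pow_two, ← ht, pow_orderOf_eq_one]
  have hdd : d * d = 1 := by rw [← pow_two, ← hd, pow_orderOf_eq_one]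
  have htd2 : orderOf (t * d) = 2 := by
    have hp2 : Fact (Nat.Prime 2) := ⟨Nat.prime_two⟩
    refine orderOf_eq_prime ?_ ?_
    · rw [pow_two]
      calc t * d * (t * d) = t * (d * t) * d := by group
        _ = t * (t * d) * d := by rw [hc]
        _ = (t * t) * (d * d) := by group
        _ = 1 := by rw [htt, hdd, one_mul]
    · intro h
      apply htd
      calc t = (t * d) * d⁻¹ := by group
        _ = d := by rw [h, one_mul]; exact inv_eq_of_mul_eq_one_left hdd
  obtain ⟨V, hV, htV, hdV⟩ := exists_klein htt hdd hc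
  obtain ⟨q, hq, R, y, hq13, hq2, hRO, hRq, hsup, hVR, hy, hyR, hRy⟩ := exists_sylow hL hne hodd hV
  have htR := hVR htV
  have hdR := hVR hdV
  apply hRy
  by_cases hq3 : q = 3
  · subst hq3
    exact three_core FT hS T hL hRq hsup h9 ht hd htd hc htR hdR hy hyR
  by_cases hq5 : q = 5
  · subst hq5
    rw [h5 t d ht hd htd hc R hRq (fun r hr => (mem_normalizer_iff.1 htR r).1 hr)
      (fun r hr => (mem_normalizer_iff.1 hdR r).1 hr)]
    exact bot_le
  obtain ⟨n, hn⟩ := hy
  refine Arith.cent_of_index (p := 13) (by norm_num) hn hq.out hq13 hRq hyR ?_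
  intro m hm hmd _
  refine hNa q m hq.out hq2 hq3 hq5 hq13 hm (hmd.trans ?_)
  have hkl := KleinOrder.card_klein R (hodd.of_dvd_nat (card_dvd_of_le hRO)) htt hdd hc
    (fun r hr => (mem_normalizer_iff.1 htR r).1 hr) (fun r hr => (mem_normalizer_iff.1 hdR r).1 hr)
  refine (Dvd.intro _ hkl).trans ?_
  rw [pow_succ, pow_two]
  exact mul_dvd_mul (mul_dvd_mul ((card_dvd_of_le inf_le_right).trans (hN t ht))
    ((card_dvd_of_le inf_le_right).trans (hN d hd))) ((card_dvd_of_le inf_le_right).trans (hN (t * d) htd2))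

/-! ### The numbers -/

/-- `2 |B|` -/
def twoB : ℕ := 8309562962452852382355161088000000

theorem twoB_eq : twoB = 2 ^ 42 * 3 ^ 13 * 5 ^ 6 * 7 ^ 2 * 11 * 13 * 17 * 19 * 23 * 31 * 47 := by
  norm_num [twoB]

theorem twoB_not : ¬ 13 ^ 2 ∣ twoB := by
  norm_num [twoB]

theorem twoB_noAct : ∀ q m, q.Prime → q ≠ 2 → q ≠ 3 → q ≠ 5 → q ≠ 13 → 1 ≤ m → q ^ m ∣ twoB ^ 3 → ¬ 13 ∣ q ^ m - 1 := by
  intro q m hq h2 h3 h5 h13 hm hd
  have key : Arith.NoAct 13 ((7 ^ 2 * 11 * 17 * 19 * 23 * 31 * 47) ^ 3) :=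
    noAct_of_valid (l := [(7, 6), (11, 3), (17, 3), (19, 3), (23, 3), (31, 3), (47, 3)]) (by decide +kernel)
      (by decide +kernel)
  refine key q m hq h13 hm ?_
  have e : twoB ^ 3 = (2 ^ 126 * 3 ^ 39 * 5 ^ 18 * 13 ^ 3) * (7 ^ 2 * 11 * 17 * 19 * 23 * 31 * 47) ^ 3 := by
    rw [twoB_eq]
    ring
  rw [e] at hd
  refine Nat.Coprime.dvd_of_dvd_mul_left (Nat.Coprime.pow_left m ?_) hd
  have hc : ∀ r k, r.Prime → q ≠ r → Nat.Coprime q (r ^ k) := fun r k hr hqr =>
    Nat.Coprime.pow_right k ((Nat.coprime_primes hq hr).2 hqr)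
  exact Nat.Coprime.mul_right (Nat.Coprime.mul_right (Nat.Coprime.mul_right (hc 2 126 Nat.prime_two h2)
    (hc 3 39 Nat.prime_three h3)) (hc 5 18 Nat.prime_five h5)) (hc 13 3 (by norm_num) h13)

end Cfsg.Agent.MThirteen.TwoA

end

-- merged: Cfsg.Agent.MThirteen.PureB
section

/-!
# The product of two commuting transpositions of the Baby Monster is not a transposition (helper75)
-/

set_option autoImplicit false

namespace Cfsg.Agent.MThirteen.PureB

open Cfsg.Agent.BabyU.Clos Cfsg.Agent.CpAutBFive.Uniq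

variable {G : Type*} [Group G] {P M : Subgroup G} {z t t₁ : G}

theorem cls_inv {f : G} (g : G) (hf : g * f * g⁻¹ ∈ cls (⊤ : Subgroup G) t) : f ∈ cls (⊤ : Subgroup G) t := by
  have h := conj_cls hf g⁻¹
  have e : g⁻¹ * (g * f * g⁻¹) * g⁻¹⁻¹ = f := by group
  rwa [e] at h

/-- the case of `M` -/
theorem not_mem (I : Inner ⊤ P M z t t₁) {e : G} (he : e ∈ cls (⊤ : Subgroup G) t)
    (hu : t * e ∈ cls (⊤ : Subgroup G) t) : e ∉ M := by
  intro hM
  have hne : e ≠ t := by
    rintro rfl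
    rw [I.t_sq] at hu
    exact cls_ne I hu rfl
  obtain ⟨k, -, hk, hk'⟩ := I.adj e he hM hne
  apply I.z_notin
  have h1 : t * e = k * z * k⁻¹ := by
    rw [← hk']
    calc t * (k * (t * z) * k⁻¹) = (t * k) * t * z * k⁻¹ := by group
      _ = (k * t) * t * z * k⁻¹ := by rw [hk]
      _ = k * (t * t) * z * k⁻¹ := by group
      _ = k * z * k⁻¹ := by rw [I.t_sq, mul_one]
  rw [h1] at hu
  exact cls_inv k hu

/-- **No four-group of transpositions.** -/
theorem no_four (I : Inner ⊤ P M z t t₁) {e : G} (he : e ∈ cls (⊤ : Subgroup G) t) (hte : e * t = t * e)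
    (hu : t * e ∈ cls (⊤ : Subgroup G) t) : False := by
  have htt := I.t_sq
  have hee := cls_sq I he
  have heM : e ∉ M := not_mem I he hu
  have hteM : t * e ∉ M := not_mem I hu (by rw [← mul_assoc, htt, one_mul]; exact he)
  obtain ⟨k, -, hk⟩ := id he
  obtain ⟨a, ha⟩ : ∃ a, a = k⁻¹ * t * k := ⟨_, rfl⟩
  have hac : a ∈ cls (⊤ : Subgroup G) t := by
    have h1 := conj_cls (mem_cls_self ⊤ t) k⁻¹
    rwa [inv_inv, ← ha] at h1
  have ht : k⁻¹ * e * k = t := by rw [← hk]; group
  have hat : a * t = t * a := by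
    calc a * t = k⁻¹ * t * k * (k⁻¹ * e * k) := by rw [ht, ha]
      _ = k⁻¹ * (t * e) * k := by group
      _ = k⁻¹ * (e * t) * k := by rw [hte]
      _ = (k⁻¹ * e * k) * (k⁻¹ * t * k) := by group
      _ = t * a := by rw [ht, ha]
  have hta : t * a ∈ cls (⊤ : Subgroup G) t := by
    have h1 := conj_cls hu k⁻¹
    have e1 : k⁻¹ * (t * e) * k⁻¹⁻¹ = t * a := by
      calc k⁻¹ * (t * e) * k⁻¹⁻¹ = k⁻¹ * (e * t) * k := by rw [hte, inv_inv]
        _ = (k⁻¹ * e * k) * (k⁻¹ * t * k) := by group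
        _ = t * a := by rw [ht, ha]
    rwa [e1] at h1
  have haM : a ∉ M := not_mem I hac hta
  -- the action of `C(t)`
  have key : ∀ g : G, g * t = t * g → g * a * g⁻¹ = a ∨ g * a * g⁻¹ = a * t := by
    intro g hg
    have hgt : g * t * g⁻¹ = t := mul_inv_eq_iff_eq_mul.2 hg
    have h1 := uniq_two I (e := t * e) (f := k * (g * a * g⁻¹) * k⁻¹) hu
      (by rw [mul_assoc, hte]) hteM (conj_cls (conj_cls hac g) k) ?_ ?_
    · rcases h1 with h1 | h1
      · left
        calc g * a * g⁻¹ = k⁻¹ * (k * (g * a * g⁻¹) * k⁻¹) * k := by group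
          _ = a := by rw [h1, ha]
      · right
        have h2 : g * a * g⁻¹ = k⁻¹ * (t * e) * k := by rw [← h1]; group
        rw [h2, ha]
        calc k⁻¹ * (t * e) * k = k⁻¹ * t * k * (k⁻¹ * e * k) := by group
          _ = _ := by rw [ht]
    · have e1 : t * (t * e) = k * t * k⁻¹ := by rw [← mul_assoc, htt, one_mul, hk]
      rw [e1]
      calc k * (g * a * g⁻¹) * k⁻¹ * (k * t * k⁻¹) = k * g * a * (g⁻¹ * t * g) * g⁻¹ * k⁻¹ := by group
        _ = k * g * (a * t) * g⁻¹ * k⁻¹ := by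
          have e2 : g⁻¹ * t * g = t := by rw [mul_assoc, ← hg]; group
          rw [e2]
          group
        _ = k * g * (t * a) * g⁻¹ * k⁻¹ := by rw [hat]
        _ = k * (g * t * g⁻¹) * g * a * g⁻¹ * k⁻¹ := by group
        _ = k * t * g * a * g⁻¹ * k⁻¹ := by rw [hgt]
        _ = k * t * k⁻¹ * (k * (g * a * g⁻¹) * k⁻¹) := by group
    · have e1 : t * (t * e) = k * t * k⁻¹ := by rw [← mul_assoc, htt, one_mul, hk]
      rw [e1]
      have h2 := conj_cls hta (k * g)
      have e2 : k * g * (t * a) * (k * g)⁻¹ = k * t * k⁻¹ * (k * (g * a * g⁻¹) * k⁻¹) := by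
        calc k * g * (t * a) * (k * g)⁻¹ = k * (g * t * g⁻¹) * g * a * g⁻¹ * k⁻¹ := by group
          _ = k * t * g * a * g⁻¹ * k⁻¹ := by rw [hgt]
          _ = _ := by group
      rwa [e2] at h2
  -- an element with `g a g⁻¹ = a t`
  have swap : ∀ g : G, g * a * g⁻¹ = a * t → a⁻¹ * g * a = t * g := by
    intro g hg
    have h1 : a⁻¹ * (g * a * g⁻¹) = t := by rw [hg]; group
    calc a⁻¹ * g * a = a⁻¹ * (g * a * g⁻¹) * g := by group
      _ = t * g := by rw [h1]
  have hzt : z * t = t * z := (I.zc t I.tP).symm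
  -- `a` commutes with `z`
  have haz : a * z = z * a := by
    rcases key z hzt with h | h
    · exact (mul_inv_eq_iff_eq_mul.1 h).symm
    · exfalso
      have h1 := swap z h
      obtain ⟨q, -, hq⟩ := I.fuse
      have h2 : t * z ∈ cls (⊤ : Subgroup G) t := by
        rw [← hq]
        exact conj_cls (mem_cls_self ⊤ t) q
      rw [← h1] at h2
      apply I.z_notin
      have h3 := cls_inv (g := a⁻¹) (f := z) (t := t) (by rwa [inv_inv])
      exact h3
  -- `a` commutes with the transpositions of `P`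
  have hP : ∀ d ∈ cls (⊤ : Subgroup G) t, d ∈ P → d * t = t * d → a * d = d * a := by
    intro d hd hdP hdt
    rcases key d hdt with h | h
    · exact (mul_inv_eq_iff_eq_mul.1 h).symm
    · exfalso
      have h1 := swap d h
      have h2 : t * d ∈ cls (⊤ : Subgroup G) t := by
        rw [← h1]
        have h3 := conj_cls hd a⁻¹
        rwa [inv_inv] at h3
      exact not_mem I hd h2 (I.PM d hdP hdt)
  exact haM (I.PM a (I.perp a (Subgroup.mem_top a) haz hat hP) hat)

end Cfsg.Agent.MThirteen.PureB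

namespace Cfsg.Agent.MThirteen.PureB

open Cfsg

/-- **The presented Baby Monster.** -/
theorem not_conj {t : Spor.BabyMonster} (ht : IsConj t (PresentedGroup.of Spor.BabyMonster.Gen.t1 : Spor.BabyMonster))
    {a b : Spor.BabyMonster} (ha : IsConj t a) (hb : IsConj t b) (hc : a * b = b * a) : ¬ IsConj t (a * b) := by
  obtain ⟨f, P, M₁, z, τ, τ₁, I, ⟨g, hg⟩, hex⟩ := BabyU.ModelInst.model.iso
  obtain ⟨c, hc'⟩ := isConj_iff.1 (ha.symm.trans ht)
  let e := f.trans (MulAut.conj (g⁻¹ * f c))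
  have he : e a = τ := by
    show (g⁻¹ * f c) * f a * (g⁻¹ * f c)⁻¹ = τ
    have h1 : f c * f a * (f c)⁻¹ = g * τ * g⁻¹ := by rw [← hg, ← hc', map_mul, map_mul, map_inv]
    calc (g⁻¹ * f c) * f a * (g⁻¹ * f c)⁻¹ = g⁻¹ * (f c * f a * (f c)⁻¹) * g := by group
      _ = τ := by rw [h1]; group
  have hcls : ∀ s, IsConj a s → e s ∈ BabyU.Clos.cls ⊤ τ := by
    intro s h
    obtain ⟨c, hc⟩ := isConj_iff.1 h
    refine ⟨e c, Subgroup.mem_top _, ?_⟩
    have h1 := congrArg e hc
    rwa [map_mul, map_mul, map_inv, he] at h1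
  intro hab
  refine no_four I (e := e b) (hcls b (ha.symm.trans hb)) ?_ ?_
  · rw [← he, ← map_mul, ← map_mul, hc]
  · have h1 := hcls _ (ha.symm.trans hab)
    rwa [map_mul, he] at h1

end Cfsg.Agent.MThirteen.PureB

end

-- merged: Cfsg.Agent.MThirteen.Pure
section

/-!
# No `2A`-pure elementary abelian subgroup of order 8 in the Monster (helper75)
-/

set_option autoImplicit false
set_option linter.unusedSectionVars false

open Subgroup

namespace Cfsg.Agent.MThirteen.Pure

open Cfsg Cfsg.Lie Cfsg.Agent.Bimonster Cfsg.Agent.BabyU Cfsg.Agent.TwoESix.Cover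
open Cfsg.Agent.MonsterX.KSide Cfsg.Agent.MonsterX.KLift Cfsg.Agent.MonsterX.KModel
open Cfsg.Agent.MonsterX.Model Cfsg.Agent.MonsterX.MainPack Cfsg.Agent.MonsterX.MainSimple
open Cfsg.Agent.MonsterX.MainBasic Cfsg.Agent.MonsterU.Assembly Cfsg.Agent.MonsterN Cfsg.Agent.MonsterN.Lit
open Cfsg.Agent.MonsterN.LitInst Cfsg.Agent.MonsterU.Lam2 Cfsg.Agent.MonsterU.TwoCls Cfsg.Agent.BabyComp
open Cfsg.Agent.CpAutBFive

variable {V P W : Type} [AddCommGroup V] [Module ℚ V] [Group P] [AddCommGroup W] [Module ℚ W]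
  {D : MData V} {M : KS ↥D.G V P W} {x₀ : P} {θ : leechLattice → P} {K₀ : Type} [Group K₀]

/-- the map onto the Baby Monster and the transpositions -/
theorem exists_map (A : All D K₀) (H : Link D M x₀) (L : Lift M θ) {τ : D.G} {y' : P}
    (T : Cfsg.Agent.MonsterU.InvTwo.TauHyp M θ ⊤ τ y') {y : ℕ → D.G} (hP : PRel y) (hne : y 0 ≠ y 1)
    (hy : ∃ g : D.G, g * tG A.hG A.hR * g⁻¹ = y 10) :
    ∃ (q : BB M x₀ →* Spor.BabyMonster) (t : Spor.BabyMonster),
      IsConj t (PresentedGroup.of Spor.BabyMonster.Gen.t1 : Spor.BabyMonster) ∧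
      ∀ d : BB M x₀, d * d = 1 → d ≠ 1 → d ≠ tb M x₀ → ¬ IsConj M.z (d : D.G) →
        ¬ IsConj M.z ((tb M x₀ * d : BB M x₀) : D.G) → IsConj t (q d) := by
  have hfin : Finite D.G := G_finite A.hO
  have hB : Cfsg.IsB Cfsg.Spor.BabyMonster := Cfsg.Agent.S1704.result
  obtain ⟨⟨h1, h2, h3⟩, h43⟩ := ModelB.fieldsKS A H L hP hne hy hB H.x₀_mem
  obtain ⟨f₁, f₂, f₃, f₄, Fc, hcz, hcd, p, hp, hp2, hp2'⟩ := FusInst.exists_facts A H L T H.x₀_mem
  have hzm : M.z ∈ BB M x₀ := mem_centralizer_singleton_iff.2 (by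
    show M.ι M.zc * M.ι x₀ = M.ι x₀ * M.ι M.zc
    rw [← map_mul, ← map_mul, M.zc_comm])
  have hE : Emb (BB M x₀).subtype M.z (tb M x₀) f₁ f₂ f₃ :=
    ⟨Subtype.val_injective, nineteen H A, ((BB M x₀).subtype.map_isConj (hcz hzm)).symm, hcd⟩
  -- the group `²E₆(2)`
  let K := GaloisField 2 2
  let _i : Fintype K := Fintype.ofFinite K
  have hK : Fintype.card K = 4 := by
    rw [← Nat.card_eq_fintype_card]
    exact GaloisField.card 2 2 (by norm_num)
  have hF : Fintype.card K = 2 ^ 2 := by rw [hK]; norm_num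
  have hsE := EInst.isSimple K hK
  obtain ⟨e0, r, he0, hgen, hr, -, hconj⟩ := TwoESix.GoodInst.exists_good K hK
  have hR : ∀ i, e0 i ∈ rootClass K := fun i => by
    obtain ⟨g, hg⟩ := hconj i
    exact ⟨g, r, hr, hg⟩
  have hHB : Finite HB := Cfsg.Agent.BM.HBFinal.finite_HB
  have hcard := Cfsg.Agent.BM.HBFinal.hcard K hK
  obtain ⟨q, yB, hpre, π, hq, h10, DK, hc5, hq5⟩ :=
    NodesB.nodes he0 hgen hcard (Cfsg.Agent.BM.HBFinal.card_E K hK) hR h1 h2 h3 Fc hE
  refine ⟨q, q (yB 5), hq5, ?_⟩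
  intro d hdd hd1 hdt hdz htz
  have hzc : ∀ u : BB M x₀, IsConj (tb M x₀ * (f₁ * f₂)) u → IsConj M.z (u : D.G) := fun u hu =>
    ((BB M x₀).subtype.map_isConj (hcz hzm)).symm.trans ((BB M x₀).subtype.map_isConj hu)
  have hd : IsConj f₁ d := by
    rcases Fc.classes d hdd hd1 hdt with h | h | h | h
    · exact h
    · exfalso
      exact htz (hzc _ (FusionType.conj_mul_t Fc.cen h))
    · exact absurd (hzc _ h) hdz
    · exact absurd (hcd.trans ((BB M x₀).subtype.map_isConj h)) hdz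
  exact q.map_isConj (hc5.symm.trans hd)

end Cfsg.Agent.MThirteen.Pure

end

-- merged: Cfsg.Agent.MThirteen.TwoA
section

/-!
# S1332, the Monster, `p = 13`: elements commuting with no conjugate of `z` (helper75)

* `no_pure` : no `2A`-pure elementary abelian subgroup of order 8 in the Monster;
* `good` : `x` of order 13 commuting with no conjugate of `z` : `Good 13 C(x)`.
-/

set_option autoImplicit false
set_option maxRecDepth 100000

namespace Cfsg.Agent.MThirteen.TwoARow

open Cfsg Cfsg.Agent.MonsterX Cfsg.Agent.MonsterX.InstData Cfsg.Agent.MonsterX.MainPack Cfsg.Agent.MonsterU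
open Cfsg.Agent.MonsterP Cfsg.Agent.MonsterN Cfsg.Agent.LThree
open Cfsg.Agent.LThreeMB (fr XX Zx KChart.Cent KChart.pi KChart.chart CoOne)
open Cfsg.Agent.MonsterX.MainBasic Cfsg.Agent.MonsterX.MainSimple Cfsg.Agent.MonsterX.Model
open Cfsg.Spor (Co1)
open Cfsg.Agent.LThreeB.Row (TA)
open Subgroup (centralizer mem_centralizer_singleton_iff)

/-- an element of the class `2A` is the involution `ι x₀` up to conjugation -/
theorem exists_conj {t : ↥InstData.M.G} (ht : TA t) :
    ∃ g : ↥InstData.M.G, g * t * g⁻¹ = KDone.K.ι KLinkInst.x₀ := by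
  obtain ⟨k, hk⟩ := ModelB.exists_conj_t LitFin.all.hG LitFin.all.hR KDone.lnk KDone.lft KDone.lnk.x₀_mem
  have ht' : IsConj (tG LitFin.all.hG LitFin.all.hR) t := ht
  obtain ⟨c, hc⟩ := isConj_iff.1 ht'
  refine ⟨k * c⁻¹, ?_⟩
  rw [← hk, ← hc]
  group

/-- `|C(t)| = 2 |B|` -/
theorem card_cent {t : ↥InstData.M.G} (ht : TA t) :
    Nat.card ↥(centralizer ({t} : Set ↥InstData.M.G)) = TwoA.twoB := by
  obtain ⟨g, hg⟩ := exists_conj ht
  obtain ⟨⟨h1, -, ⟨e⟩⟩, -⟩ := ModelB.fieldsKS LitFin.all KDone.lnk KDone.lft (NodesGrp.prel LitFin.H)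
    (NodesNe.ne LitFin.H) LitFin.conj_ten Cfsg.Agent.S1704.result KDone.lnk.x₀_mem
  have h2 := Subgroup.card_eq_card_quotient_mul_card_subgroup
    (Subgroup.center ↥(centralizer ({KDone.K.ι KLinkInst.x₀} : Set ↥InstData.M.G)))
  have h0 : IsB Spor.BabyMonster := S1704.result
  rw [h1, Nat.card_congr e.toEquiv, h0.2] at h2
  have h3 : Nat.card ↥(centralizer ({KDone.K.ι KLinkInst.x₀} : Set ↥InstData.M.G)) =
      Nat.card ↥(centralizer ({t} : Set ↥InstData.M.G)) := by
    have h4 : (centralizer ({t} : Set ↥InstData.M.G)).map (MulAut.conj g).toMonoidHom =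
        centralizer ({KDone.K.ι KLinkInst.x₀} : Set ↥InstData.M.G) := by
      ext a
      rw [mem_centralizer_singleton_iff, ← hg]
      constructor
      · rintro ⟨b, hb, rfl⟩
        have hb' : b * t = t * b := mem_centralizer_singleton_iff.1 hb
        show g * b * g⁻¹ * (g * t * g⁻¹) = g * t * g⁻¹ * (g * b * g⁻¹)
        calc g * b * g⁻¹ * (g * t * g⁻¹) = g * (b * t) * g⁻¹ := by group
          _ = g * (t * b) * g⁻¹ := by rw [hb']
          _ = _ := by group
      · intro ha
        refine ⟨g⁻¹ * a * g, mem_centralizer_singleton_iff.2 ?_, ?_⟩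
        · calc g⁻¹ * a * g * t = g⁻¹ * (a * (g * t * g⁻¹)) * g := by group
            _ = g⁻¹ * (g * t * g⁻¹ * a) * g := by rw [ha]
            _ = _ := by group
        · show g * (g⁻¹ * a * g) * g⁻¹ = a
          group
    rw [← h4]
    exact Subgroup.card_map_of_injective (MulAut.conj g).injective
  rw [← h3, h2, TwoA.twoB]

/-- **No `2A`-pure elementary abelian subgroup of order 8.** -/
theorem no_pure {t d s : ↥InstData.M.G} (ht : TA t) (hd : TA d) (hs : TA s) (htd : TA (t * d)) (hts : TA (t * s))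
    (hds : TA (d * s)) (htds : TA (t * (d * s))) (ctd : t * d = d * t) (cts : t * s = s * t)
    (cds : d * s = s * d) : False := by
  obtain ⟨g, hg⟩ := exists_conj ht
  obtain ⟨q, u, hu1, hu⟩ := Pure.exists_map LitFin.all KDone.lnk KDone.lft
    (TauInst.tauHyp (Final.cent InstanceFinal.mOrbit Instance.mTrans)) (NodesGrp.prel LitFin.H)
    (NodesNe.ne LitFin.H) LitFin.conj_ten
  have hone : ∀ {a : ↥InstData.M.G}, TA a → a ≠ 1 := by
    intro a ha h1
    have := Row.ta_order ha
    rw [h1, orderOf_one] at this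
    norm_num at this
  have hsq : ∀ {a : ↥InstData.M.G}, TA a → a * a = 1 := by
    intro a ha
    rw [← pow_two, ← Row.ta_order ha, pow_orderOf_eq_one]
  have hmem : ∀ {a : ↥InstData.M.G}, t * a = a * t →
      g * a * g⁻¹ ∈ LitInst.BB KDone.K KLinkInst.x₀ := by
    intro a ha
    refine mem_centralizer_singleton_iff.2 ?_
    rw [← hg]
    calc g * a * g⁻¹ * (g * t * g⁻¹) = g * (a * t) * g⁻¹ := by group
      _ = g * (t * a) * g⁻¹ := by rw [ha]
      _ = _ := by group
  have hnz : ∀ {a : ↥InstData.M.G}, TA a → ¬ IsConj KDone.K.z (g * a * g⁻¹) := by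
    intro a ha hz
    obtain ⟨u, hu⟩ := isConj_iff.1 hz
    refine Row.ta_ne ha (u⁻¹ * g) ?_
    calc u⁻¹ * g * a * (u⁻¹ * g)⁻¹ = u⁻¹ * (g * a * g⁻¹) * u := by group
      _ = KDone.K.z := by rw [← hu]; group
  have key : ∀ {a : ↥InstData.M.G} (ha : TA a) (hta : TA (t * a)) (hc : t * a = a * t),
      IsConj u (q ⟨g * a * g⁻¹, hmem hc⟩) := by
    intro a ha hta hc
    refine hu _ (Subtype.ext ?_) ?_ ?_ (hnz ha) ?_
    · show g * a * g⁻¹ * (g * a * g⁻¹) = 1
      calc g * a * g⁻¹ * (g * a * g⁻¹) = g * (a * a) * g⁻¹ := by group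
        _ = 1 := by rw [hsq ha]; group
    · intro h
      have h1 : g * a * g⁻¹ = 1 := congrArg Subtype.val h
      apply hone ha
      calc a = g⁻¹ * (g * a * g⁻¹) * g := by group
        _ = 1 := by rw [h1]; group
    · intro h
      have h1 : g * a * g⁻¹ = KDone.K.ι KLinkInst.x₀ := congrArg Subtype.val h
      rw [← hg] at h1
      have h2 : a = t := mul_left_cancel (mul_right_cancel h1)
      apply hone hta
      rw [h2, hsq ht]
    · have e : ((LitInst.tb KDone.K KLinkInst.x₀ * ⟨g * a * g⁻¹, hmem hc⟩ :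
          LitInst.BB KDone.K KLinkInst.x₀) : ↥InstData.M.G) = g * (t * a) * g⁻¹ := by
        show KDone.K.ι KLinkInst.x₀ * (g * a * g⁻¹) = _
        rw [← hg]
        group
      rw [e]
      exact hnz hta
  have ctds : t * (d * s) = (d * s) * t := by rw [← mul_assoc, ctd, mul_assoc, cts, mul_assoc]
  refine PureB.not_conj hu1 (key hd htd ctd) (key hs hts cts) ?_ ?_
  · rw [← map_mul, ← map_mul]
    congr 1
    apply Subtype.ext
    show g * d * g⁻¹ * (g * s * g⁻¹) = g * s * g⁻¹ * (g * d * g⁻¹)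
    calc g * d * g⁻¹ * (g * s * g⁻¹) = g * (d * s) * g⁻¹ := by group
      _ = g * (s * d) * g⁻¹ := by rw [cds]
      _ = _ := by group
  · rw [← map_mul]
    have e : (⟨g * d * g⁻¹, hmem ctd⟩ * ⟨g * s * g⁻¹, hmem cts⟩ : LitInst.BB KDone.K KLinkInst.x₀) =
        ⟨g * (d * s) * g⁻¹, hmem ctds⟩ := by
      apply Subtype.ext
      show g * d * g⁻¹ * (g * s * g⁻¹) = g * (d * s) * g⁻¹
      group
    rw [e]
    exact key hds htds ctds

section

variable {x : ↥InstData.M.G} (hxz : ∀ g : ↥InstData.M.G, (g * KDone.K.z * g⁻¹) * x ≠ x * (g * KDone.K.z * g⁻¹))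

include hxz

/-- the involutions commuting with `x` -/
theorem ta {a : ↥InstData.M.G} (haa : a * a = 1) (ha1 : a ≠ 1) (hax : a * x = x * a) : TA a := by
  rcases MFive.Row.two a haa ha1 with ⟨g, hg⟩ | ⟨g, hg⟩
  · exfalso
    apply hxz g
    rw [hg, hax]
  · exact isConj_iff.2 ⟨g, hg⟩

/-- elementary abelian 2-subgroups of `C(x)` have order at most 4 -/
theorem card_lt {A : Subgroup ↥(centralizer ({x} : Set ↥InstData.M.G))} (hA : ∀ a ∈ A, a * a = 1) :
    Nat.card ↥A < 8 := by
  classical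
  have hfin : Finite ↥InstData.M.G := Row.finite
  by_contra hcon
  push Not at hcon
  have hcomm : ∀ a ∈ A, ∀ b ∈ A, a * b = b * a := by
    intro a ha b hb
    have h1 := hA (a * b) (mul_mem ha hb)
    calc a * b = a * (a * b * (a * b)) * b := by rw [h1, mul_one]
      _ = (a * a) * (b * a) * (b * b) := by group
      _ = b * a := by rw [hA a ha, hA b hb, one_mul, mul_one]
  have hex : ∀ S : Finset ↥A, S.card ≤ 4 → ∃ a : ↥A, a ∉ S := by
    intro S hS
    by_contra h
    push Not at h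
    have := Fintype.ofFinite ↥A
    have h1 : S = Finset.univ := Finset.eq_univ_of_forall h
    rw [h1, Finset.card_univ, ← Nat.card_eq_fintype_card] at hS
    omega
  obtain ⟨t, ht⟩ := hex {1} (by rw [Finset.card_singleton]; norm_num)
  obtain ⟨d, hd⟩ := hex {1, t} (Finset.card_le_two.trans (by norm_num))
  obtain ⟨s, hs⟩ := hex {1, t, d, t * d} Finset.card_le_four
  simp only [Finset.mem_insert, Finset.mem_singleton, not_or] at ht hd hs
  have key : ∀ a : ↥A, a ≠ 1 → TA (((a : ↥(centralizer ({x} : Set ↥InstData.M.G)))) : ↥InstData.M.G) := by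
    intro a ha
    refine ta hxz ?_ ?_ ?_
    · exact congrArg Subtype.val (hA a a.2)
    · intro h
      exact ha (Subtype.ext (Subtype.ext h))
    · exact mem_centralizer_singleton_iff.1 (a : ↥(centralizer ({x} : Set ↥InstData.M.G))).2
  have hsq : ∀ a : ↥A, a * a = 1 := fun a => Subtype.ext (hA a a.2)
  have hne : ∀ {a b : ↥A}, a ≠ b → a * b ≠ 1 := by
    intro a b hab h
    apply hab
    calc a = a * b * b := by rw [mul_assoc, hsq, mul_one]
      _ = b := by rw [h, one_mul]
  have hc : ∀ a b : ↥A, a * b = b * a := fun a b => Subtype.ext (hcomm a a.2 b b.2)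
  have hv : ∀ {a b : ↥A}, a * b = b * a →
      (((a : ↥(centralizer ({x} : Set ↥InstData.M.G)))) : ↥InstData.M.G) *
        (((b : ↥(centralizer ({x} : Set ↥InstData.M.G)))) : ↥InstData.M.G) =
      (((b : ↥(centralizer ({x} : Set ↥InstData.M.G)))) : ↥InstData.M.G) *
        (((a : ↥(centralizer ({x} : Set ↥InstData.M.G)))) : ↥InstData.M.G) := by
    intro a b h
    exact congrArg (fun c : ↥A => (((c : ↥(centralizer ({x} : Set ↥InstData.M.G)))) : ↥InstData.M.G)) h
  exact no_pure (key t ht) (key d hd.1) (key s hs.1) (key (t * d) (hne (Ne.symm hd.2)))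
    (key (t * s) (hne (Ne.symm hs.2.1))) (key (d * s) (hne (Ne.symm hs.2.2.1)))
    (key (t * (d * s)) (fun h => by
      apply hs.2.2.2
      calc s = (t * d) * (t * d) * s := by rw [hsq, one_mul]
        _ = (t * d) * (t * (d * s)) := by group
        _ = t * d := by rw [h, mul_one]))
    (hv (hc t d)) (hv (hc t s)) (hv (hc d s))

/-- no 13-automorphisms of the elementary abelian 2-subgroups -/
theorem no_two : BpSpor.MBig.NoTwo 13 ↥(centralizer ({x} : Set ↥InstData.M.G)) := by
  have hfin : Finite ↥InstData.M.G := Row.finite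
  intro A hA m hm1 hmd
  have h1 := card_lt hxz hA
  have h2 := Nat.le_of_dvd Nat.card_pos hmd
  have h3 : m < 3 := (Nat.pow_lt_pow_iff_right (a := 2) (by norm_num)).1 (by omega)
  interval_cases m <;> norm_num

/-- **The 2A case.** -/
theorem good (I : CoOne) (I5 : MFive.CoFive) (hJ : ∀ s : Co1, orderOf s = 5 → fr s = 1 → Spor.IsoJ2 (XX s))
    (hS : CpAut.AllKnown.{0}) (T : OrdDiv.OrderTable.{0}) (hx : orderOf x = 13) :
    BpTab.Good 13 ↥(centralizer ({x} : Set ↥InstData.M.G)) := by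
  have hfin : Finite ↥InstData.M.G := Row.finite
  have hp13 : Fact (Nat.Prime 13) := ⟨by norm_num⟩
  have hta : ∀ {a : ↥(centralizer ({x} : Set ↥InstData.M.G))}, orderOf a = 2 → TA (a : ↥InstData.M.G) := by
    intro a ha
    refine ta hxz ?_ ?_ (mem_centralizer_singleton_iff.1 a.2)
    · have h1 : a * a = 1 := by rw [← pow_two, ← ha, pow_orderOf_eq_one]
      exact congrArg Subtype.val h1
    · intro h
      have h1 : a = 1 := Subtype.ext h
      rw [h1, orderOf_one] at ha
      norm_num at ha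
  have hmap : ∀ a : ↥(centralizer ({x} : Set ↥InstData.M.G)),
      Nat.card ↥(centralizer ({a} : Set ↥(centralizer ({x} : Set ↥InstData.M.G)))) ∣
        Nat.card ↥(centralizer ({x} : Set ↥InstData.M.G) ⊓ centralizer ({(a : ↥InstData.M.G)} : Set ↥InstData.M.G)) := by
    intro a
    rw [← Subgroup.card_map_of_injective
      (Subgroup.subtype_injective (centralizer ({x} : Set ↥InstData.M.G)))]
    apply Subgroup.card_dvd_of_le
    rintro _ ⟨c, hc, rfl⟩
    exact Subgroup.mem_inf.2 ⟨c.2, mem_centralizer_singleton_iff.2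
      (congrArg Subtype.val (mem_centralizer_singleton_iff.1 hc))⟩
  refine TwoA.good_of_pure (fun K _ _ h => MFive.Row.FT K h) hS T
    (x := ⟨x, mem_centralizer_singleton_iff.2 rfl⟩) (by rw [Subgroup.orderOf_mk, hx]) ?_ (N := TwoA.twoB) ?_
    TwoA.twoB_not TwoA.twoB_noAct (no_two hxz) ?_ ?_
  · rw [Subgroup.mem_center_iff]
    intro a
    exact Subtype.ext (mem_centralizer_singleton_iff.1 a.2)
  · intro t ht
    refine (hmap t).trans ?_
    rw [← card_cent (hta ht)]
    exact Subgroup.card_dvd_of_le inf_le_right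
  · intro s hs h9
    exact Row.not_nine I hx (hta hs) (mem_centralizer_singleton_iff.1 s.2).symm (h9.trans (hmap s))
  · intro t d ht hd hne hc R hR hRt hRd
    have htt : t * t = 1 := by rw [← pow_two, ← ht, pow_orderOf_eq_one]
    have hdd : d * d = 1 := by rw [← pow_two, ← hd, pow_orderOf_eq_one]
    have htd : orderOf (t * d) = 2 := by
      have hp2 : Fact (Nat.Prime 2) := ⟨Nat.prime_two⟩
      refine orderOf_eq_prime ?_ ?_
      · rw [pow_two]
        calc t * d * (t * d) = t * (d * t) * d := by group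
          _ = t * (t * d) * d := by rw [hc]
          _ = (t * t) * (d * d) := by group
          _ = 1 := by rw [htt, hdd, one_mul]
      · intro h
        apply hne
        calc t = (t * d) * d⁻¹ := by group
          _ = d := by rw [h, one_mul]; exact inv_eq_of_mul_eq_one_left hdd
    have h1 := FiveRow.five_trivial I5 hJ (R := R.map (centralizer ({x} : Set ↥InstData.M.G)).subtype) hx
      (hta ht) (hta hd) (hta htd) (congrArg Subtype.val hc) (hR.map _) (Subgroup.map_subtype_le _)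
      (by
        rintro _ ⟨r, hr, rfl⟩
        exact ⟨_, hRt r hr, rfl⟩)
      (by
        rintro _ ⟨r, hr, rfl⟩
        exact ⟨_, hRd r hr, rfl⟩)
    exact (Subgroup.map_eq_bot_iff_of_injective _ (Subgroup.subtype_injective _)).1 h1

end

end Cfsg.Agent.MThirteen.TwoARow

end
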