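import Cfsg.Agent.MThirteen.TwoA
import Cfsg.Agent.BpMon.Thirteen
import Cfsg.Agent.CpAutBFive.Final
import Cfsg.Agent.LThreeMB.CoOneFin
import Cfsg.Agent.OrdDiv.Table

/-!
# S1332, the row of the Monster, `p = 13` (helper75)
-/

set_option autoImplicit false

namespace Cfsg.Agent.MThirteen.RowM

open Cfsg

/-- **Row `M`, `p = 13`.** -/
theorem bps_thirteen (hS : ∀ (G : Type) [Group G] [Finite G] [IsSimpleGroup G], IsKnownSimple' G) :
    BpTab.BpS 13 Spor.Monster :=
  BpMon.Thirteen.bps_of fun _ _ hx _ _ hxz =>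
    TwoARow.good hxz LThreeMB.CoOneFin.coOne CpAutBFive.Final.coFive
      (fun _ hs h => MFive.JTwo.isoJ2 hs h) hS OrdDiv.table hx

end Cfsg.Agent.MThirteen.RowM
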